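import Cfsg.Agent.Lib.Perm.ThreeSizes.Acts
import Cfsg.Agent.Lib.StructC.FrobCount

/-!
# Centralisers of regular elements which are determined by any regular noncentral element in them
-/

set_option autoImplicit false
set_option linter.unusedSectionVars false

namespace CfsgLib.Perm.TwoRegularSizes

open Subgroup
open scoped Pointwise
open CfsgLib.InvChar.ConjRank (cent mem_cent self_mem_cent mem_cent_comm mem_cent_conj
  factorization_card_le le_factorization_of_pow_dvd factorization_le_of_dvd mem_of_central_of_full)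
open CfsgLib.Perm.ThreeSizes.Thick (Pr part mem_part part_le part_isPGroup factorization_part
  normalizer_le_part exists_pr order_pow_iff cent_inf_center cent_eq_top)

universe u
variable {G : Type u} [Group G]

/-- An element of order prime to `p`. -/
def IsReg (p : ℕ) (x : G) : Prop := ¬ p ∣ orderOf x

/-- The subgroup generated by the regular elements of a centraliser. -/
def regPart (p : ℕ) (x : G) : Subgroup G := closure {y | y ∈ cent x ∧ IsReg p y}

theorem regPart_le_cent (p : ℕ) (x : G) : regPart p x ≤ cent x := (closure_le _).2 fun _ h => h.1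

theorem isReg_one {p : ℕ} (hp : p.Prime) : IsReg p (1 : G) := by
  rw [IsReg, orderOf_one, Nat.dvd_one]; exact hp.ne_one

theorem IsReg.of_dvd {p : ℕ} {x y : G} (hx : IsReg p x) (h : orderOf y ∣ orderOf x) : IsReg p y :=
  fun hd => hx (hd.trans h)

theorem IsReg.pow {p : ℕ} {x : G} (hx : IsReg p x) (k : ℕ) : IsReg p (x ^ k) :=
  hx.of_dvd (orderOf_pow_dvd k)

theorem IsReg.conj {p : ℕ} {x : G} (hx : IsReg p x) (g : G) : IsReg p (g * x * g⁻¹) := by
  rwa [IsReg, ← MulAut.conj_apply, MulEquiv.orderOf_eq]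

theorem IsReg.mul {p : ℕ} (hp : p.Prime) {x y : G} (hx : IsReg p x) (hy : IsReg p y) (h : Commute x y) :
    IsReg p (x * y) :=
  fun hd => ((hp.dvd_mul).1 (hd.trans (h.orderOf_mul_dvd_mul_orderOf))).elim hx hy

theorem isReg_of_order {p q : ℕ} (hp : p.Prime) (hq : q.Prime) (h : q ≠ p) {x : G}
    (hx : ∃ i, orderOf x = q ^ i) : IsReg p x := by
  obtain ⟨i, hi⟩ := hx
  rw [IsReg, hi]
  exact fun hd => h ((Nat.prime_dvd_prime_iff_eq hp hq).1 (hp.dvd_of_dvd_pow hd)).symm

theorem conj_mem_center {g z : G} (hz : z ∈ center G) : g * z * g⁻¹ = z := by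
  rw [mem_center_iff.1 hz g, mul_inv_cancel_right]

theorem not_center_conj {g x : G} (hx : x ∉ center G) : g * x * g⁻¹ ∉ center G := fun h => hx (by
  have e : x = g⁻¹ * (g * x * g⁻¹) * g⁻¹⁻¹ := by group
  rw [e, conj_mem_center h]; exact h)

/-- The hypothesis: the centraliser of a noncentral regular element is that of every noncentral
regular element in it, and the regular parts of these centralisers have one order. -/
structure Hyp (G : Type u) [Group G] (p a : ℕ) : Prop where
  prime : p.Prime
  eq : ∀ x y : G, x ∉ center G → y ∉ center G → IsReg p x → IsReg p y → Commute x y → cent x = cent y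
  card : ∀ x : G, x ∉ center G → IsReg p x → Nat.card (regPart p x) = a
  exists_reg : ∃ x : G, x ∉ center G ∧ IsReg p x
  two : ∃ q r : ℕ, q.Prime ∧ r.Prime ∧ q ≠ r ∧ q ≠ p ∧ r ≠ p ∧
    (Nat.card (center G)).factorization q < a.factorization q ∧
    (Nat.card (center G)).factorization r < a.factorization r

/-- A prime other than `p` with more than the centre in a regular part. -/
def Thick (G : Type u) [Group G] (p a q : ℕ) : Prop :=
  q.Prime ∧ q ≠ p ∧ (Nat.card (center G)).factorization q < a.factorization q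

/-- A prime other than `p` whose full part is not in a regular part. -/
def Deficient (G : Type u) [Group G] (p a q : ℕ) : Prop :=
  q.Prime ∧ q ≠ p ∧ a.factorization q < (Nat.card G).factorization q

variable {p a : ℕ} (H : Hyp G p a) {x : G} (hx : x ∉ center G) (hxr : IsReg p x)
include H

theorem Hyp.exists_thick_ne (q : ℕ) : ∃ r, r ≠ q ∧ Thick G p a r := by
  obtain ⟨u, v, hu, hv, huv, hup, hvp, h1, h2⟩ := H.two
  by_cases h : u = q
  · exact ⟨v, fun e => huv (h.trans e.symm), hv, hvp, h2⟩
  · exact ⟨u, h, hu, hup, h1⟩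

include hx hxr

theorem Hyp.commute {y z : G} (hy : y ∈ cent x) (hz : z ∈ cent x) (hyr : IsReg p y) : Commute z y := by
  by_cases hyc : y ∈ center G
  · exact mem_center_iff.1 hyc z
  · exact mem_cent.1 (H.eq x y hx hyc hxr hyr (mem_cent.1 hy).symm ▸ hz)

theorem Hyp.mem_regPart {y : G} : y ∈ regPart p x ↔ y ∈ cent x ∧ IsReg p y := by
  refine ⟨fun h => ?_, fun h => subset_closure h⟩
  induction h using closure_induction with
  | mem y hy => exact hy
  | one => exact ⟨one_mem _, isReg_one H.prime⟩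
  | mul y z _ _ h1 h2 => exact ⟨mul_mem h1.1 h2.1, h1.2.mul H.prime h2.2 (H.commute hx hxr h2.1 h1.1 h2.2)⟩
  | inv y _ h1 => exact ⟨inv_mem h1.1, by rw [IsReg, orderOf_inv]; exact h1.2⟩

theorem Hyp.self_mem : x ∈ regPart p x := (H.mem_regPart hx hxr).2 ⟨self_mem_cent x, hxr⟩

theorem Hyp.comm : ∀ u ∈ regPart p x, ∀ v ∈ regPart p x, Commute u v := fun _ hu _ hv =>
  H.commute hx hxr ((H.mem_regPart hx hxr).1 hv).1 ((H.mem_regPart hx hxr).1 hu).1
    ((H.mem_regPart hx hxr).1 hv).2

theorem Hyp.cent_eq {w : G} (hw : w ∈ regPart p x) (hwc : w ∉ center G) : cent w = cent x :=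
  (H.eq x w hx hwc hxr ((H.mem_regPart hx hxr).1 hw).2 (mem_cent.1 ((H.mem_regPart hx hxr).1 hw).1).symm).symm

theorem Hyp.regPart_eq {w : G} (hw : w ∈ regPart p x) (hwc : w ∉ center G) :
    regPart p w = regPart p x := by
  rw [regPart, regPart, H.cent_eq hx hxr hw hwc]

theorem Hyp.mem_center_of_fixed {v w : G} (hw : w ∈ regPart p x) (h : Commute v w) (hv : v ∉ cent x) :
    w ∈ center G := by
  by_contra hwc
  exact hv (H.cent_eq hx hxr hw hwc ▸ mem_cent.2 h)

theorem Hyp.mem_regPart_conj {g y : G} :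
    y ∈ regPart p (g * x * g⁻¹) ↔ g⁻¹ * y * g ∈ regPart p x := by
  rw [H.mem_regPart (not_center_conj hx) (hxr.conj g), H.mem_regPart hx hxr, mem_cent_conj]
  refine and_congr_right fun _ => ⟨fun h => ?_, fun h => ?_⟩
  · simpa using h.conj g⁻¹
  · simpa [mul_assoc] using h.conj g

theorem Hyp.mem_normalizer [Finite G] {g w : G} (hw : w ∈ regPart p x) (hwc : w ∉ center G)
    (h : g * w * g⁻¹ ∈ regPart p x) : g ∈ normalizer (regPart p x : Set G) := by
  have hwr := ((H.mem_regPart hx hxr).1 hw).2
  have e : regPart p (g * w * g⁻¹) = regPart p x := H.regPart_eq hx hxr h (not_center_conj hwc)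
  refine mem_normalizer_fintype fun y hy => ?_
  rw [← H.regPart_eq hx hxr hw hwc] at hy
  rw [SetLike.mem_coe, ← e, H.mem_regPart_conj hwc hwr]
  simpa [mul_assoc] using hy

theorem Hyp.cent_le_normalizer [Finite G] : cent x ≤ normalizer (regPart p x : Set G) := fun g hg =>
  H.mem_normalizer hx hxr (H.self_mem hx hxr) hx (by
    rw [(mem_cent.1 hg).eq, mul_inv_cancel_right]; exact H.self_mem hx hxr)

theorem Hyp.conj_mem_regPart {g y : G} (hg : g ∈ normalizer (regPart p x : Set G)) (hy : y ∈ regPart p x) :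
    g * y * g⁻¹ ∈ regPart p x := (mem_normalizer_iff.1 hg y).1 hy

theorem Hyp.conj_mem_cent {g y : G} (hg : g ∈ normalizer (regPart p x : Set G)) (hy : y ∈ cent x) :
    g * y * g⁻¹ ∈ cent x := by
  have hw := H.conj_mem_regPart hx hxr (inv_mem hg) (H.self_mem hx hxr)
  rw [inv_inv] at hw
  have hwc : g⁻¹ * x * g ∉ center G := by simpa using not_center_conj (g := g⁻¹) hx
  rw [← H.cent_eq hx hxr hw hwc] at hy
  rw [mem_cent] at hy ⊢
  simpa [mul_assoc] using hy.map (MulAut.conj g).toMonoidHom

variable [Finite G]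

theorem Hyp.fac_eq {s : ℕ} (hs : s.Prime) (h : s ≠ p) :
    (Nat.card (cent x)).factorization s = a.factorization s := by
  rw [← H.card x hx hxr]
  refine le_antisymm ?_ (factorization_card_le (regPart_le_cent p x) s)
  have : Fact s.Prime := ⟨hs⟩
  obtain ⟨P⟩ := (inferInstance : Nonempty (Sylow s (cent x)))
  have hle : (P : Subgroup (cent x)).map (cent x).subtype ≤ regPart p x := by
    rintro _ ⟨u, hu, rfl⟩
    obtain ⟨i, hi⟩ := P.isPGroup'.exists_orderOf_eq_pow ⟨u, hu⟩
    exact (H.mem_regPart hx hxr).2 ⟨u.2, isReg_of_order H.prime hs h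
      ⟨i, by rwa [orderOf_mk, ← orderOf_coe] at hi⟩⟩
  refine le_trans ?_ (factorization_card_le hle s)
  rw [card_map_of_injective (cent x).subtype_injective, P.card_eq_multiplicity, hs.factorization_pow,
    Finsupp.single_eq_same]

omit hx hxr in
theorem Hyp.thick_of_pr {y : G} {q : ℕ} (hy : Pr y q) (hq : q ≠ p) : Thick G p a q := by
  refine ⟨hy.1, hq, lt_of_not_ge fun hle => hy.2.1 ?_⟩
  have hr := isReg_of_order H.prime hy.1 hq hy.2.2
  obtain ⟨i, hi⟩ := hy.2.2
  refine mem_of_central_of_full (L := center G ⊔ zpowers y) le_sup_left hy.1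
    (mem_sup_right (mem_zpowers y)) hi
    (sup_le (cent_inf_center y) (zpowers_le.2 (self_mem_cent y))) ?_
  refine le_trans (factorization_card_le
    (sup_le (cent_inf_center y) (zpowers_le.2 (self_mem_cent y))) q) ?_
  rw [H.fac_eq hy.2.1 hr hy.1 hq]
  exact hle

theorem Hyp.exists_pr {q : ℕ} (hq : Thick G p a q) : ∃ w ∈ regPart p x, Pr w q :=
  CfsgLib.Perm.ThreeSizes.Thick.exists_pr hq.1 ((H.card x hx hxr).symm ▸ hq.2.2)

theorem Hyp.part_not_center {q : ℕ} (hq : Thick G p a q) : ¬ part (regPart p x) q ≤ center G := fun hle => by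
  obtain ⟨w, hw, hw'⟩ := H.exists_pr hx hxr hq
  exact hw'.2.1 (hle ((mem_part (H.comm hx hxr)).2 ⟨hw, (order_pow_iff hq.1).2 hw'.2.2⟩))

theorem Hyp.card_part {q : ℕ} (hq : q.Prime) :
    Nat.card (part (regPart p x) q) = q ^ a.factorization q := by
  have : Fact q.Prime := ⟨hq⟩
  obtain ⟨n, hn⟩ := IsPGroup.iff_card.1 (part_isPGroup (H.comm hx hxr) q)
  have h := factorization_part (H.comm hx hxr) q
  rw [hn, hq.factorization_pow, Finsupp.single_eq_same, H.card x hx hxr] at h
  rw [hn, h]

omit hx hxr in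
theorem Hyp.thick_of_deficient {q : ℕ} (hq : Deficient G p a q) : Thick G p a q := by
  obtain ⟨x, hx, hxr⟩ := H.exists_reg
  refine ⟨hq.1, hq.2.1, lt_of_not_ge fun hle => ?_⟩
  have h1 : (Nat.card (center G)).factorization q ≤ a.factorization q := by
    rw [← H.fac_eq hx hxr hq.1 hq.2.1]; exact factorization_card_le (cent_inf_center x) q
  obtain ⟨y, -, hy⟩ := CfsgLib.Perm.ThreeSizes.Thick.exists_pr (K := (⊤ : Subgroup G)) hq.1
    (by rw [Subgroup.card_top]; exact lt_of_le_of_lt h1 hq.2.2)
  exact (H.thick_of_pr hy hq.2.1).2.2.not_ge hle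

/-- Frobenius' count: some regular part is normalised by a full Sylow `q`-subgroup. -/
theorem Hyp.exists_sylow_le {q : ℕ} [Fact q.Prime] (hq : Deficient G p a q) :
    ∃ (y : G) (_ : y ∉ center G) (_ : IsReg p y) (Q : Sylow q G),
      (Q : Subgroup G) ≤ normalizer (regPart p y : Set G) := by
  classical
  obtain ⟨Q⟩ := (inferInstance : Nonempty (Sylow q G))
  let α := {S : Subgroup G // ∃ y : G, y ∉ center G ∧ IsReg p y ∧ regPart p y = S}
  have := Fintype.ofFinite G
  have := Fintype.ofFinite α
  have hconj : ∀ (g : G) (y : G), y ∉ center G → IsReg p y →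
      MulAut.conj g • regPart p y = regPart p (g * y * g⁻¹) := fun g y hy hyr => by
    ext z
    rw [mem_pointwise_smul_iff_inv_smul_mem, H.mem_regPart_conj hy hyr, ← map_inv, MulAut.smul_def,
      MulAut.conj_apply, inv_inv]
  let act : MulAction G α :=
    { smul := fun g S => ⟨MulAut.conj g • S.1, by
        obtain ⟨y, hy, hyr, e⟩ := S.2
        exact ⟨g * y * g⁻¹, not_center_conj hy, hyr.conj g, by rw [← hconj g y hy hyr, e]⟩⟩
      one_smul := fun S => Subtype.ext (by show MulAut.conj (1 : G) • S.1 = S.1; rw [map_one, one_smul])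
      mul_smul := fun g h S => Subtype.ext (by
        show MulAut.conj (g * h) • S.1 = MulAut.conj g • MulAut.conj h • S.1
        rw [map_mul, mul_smul]) }
  have hnd : ¬ q ∣ Nat.card α := by
    intro hdvd
    set Zr := Finset.univ.filter fun y : G => y ∈ center G ∧ IsReg p y
    set R := Finset.univ.filter fun y : G => IsReg p y
    set R' := Finset.univ.filter fun y : G => y ∉ center G ∧ IsReg p y
    have hR : R.card = Zr.card + R'.card := by
      rw [← Finset.card_union_of_disjoint (Finset.disjoint_filter.2 fun y _ h h' => h'.1 h.1)]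
      congr 1
      ext y
      simp only [R, Finset.mem_filter, Finset.mem_union, Finset.mem_univ, true_and]
      tauto
    have hfib : R'.card = Nat.card α * (a - Zr.card) := by
      rw [Nat.card_eq_fintype_card, ← Finset.card_univ, ← smul_eq_mul, ← Finset.sum_const]
      rw [Finset.card_eq_sum_card_fiberwise (f := fun y => regPart p y)
        (t := (Finset.univ : Finset α).image Subtype.val) (fun y hy => by
          have hy' := (Finset.mem_filter.1 (Finset.mem_coe.1 hy)).2
          exact Finset.mem_coe.2 (Finset.mem_image.2 ⟨⟨_, y, hy'.1, hy'.2, rfl⟩, Finset.mem_univ _, rfl⟩)),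
        Finset.sum_image (fun _ _ _ _ h => Subtype.ext h)]
      refine Finset.sum_congr rfl fun S _ => ?_
      obtain ⟨y, hy, hyr, e⟩ := S.2
      have hsub : Zr ⊆ Finset.univ.filter fun z => z ∈ S.1 := fun z hz => by
        obtain ⟨hzc, hzr⟩ := (Finset.mem_filter.1 hz).2
        exact Finset.mem_filter.2 ⟨Finset.mem_univ _,
          e ▸ (H.mem_regPart hy hyr).2 ⟨cent_inf_center y hzc, hzr⟩⟩
      have hcard : (Finset.univ.filter fun z => z ∈ S.1).card = a := by
        rw [← H.card y hy hyr, e, Nat.card_eq_fintype_card]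
        exact (Fintype.card_subtype _).symm
      rw [← hcard, ← Finset.card_sdiff_of_subset hsub]
      congr 1
      ext z
      simp only [R', Zr, Finset.mem_filter, Finset.mem_univ, true_and, Finset.mem_sdiff]
      constructor
      · rintro ⟨⟨hzc, hzr⟩, he⟩
        exact ⟨he ▸ H.self_mem hzc hzr, fun h => hzc h.1⟩
      · rintro ⟨hzS, hnot⟩
        rw [← e] at hzS
        have hzr := ((H.mem_regPart hy hyr).1 hzS).2
        have hzc : z ∉ center G := fun h => hnot ⟨h, hzr⟩
        exact ⟨⟨hzc, hzr⟩, (H.regPart_eq hy hyr hzS hzc).trans e⟩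
    -- the central regular elements
    have hZ : Zr.card = Nat.card (regPart p x ⊓ center G : Subgroup G) := by
      rw [Nat.card_eq_fintype_card, Fintype.card_subtype]
      congr 1
      ext z
      simp only [Zr, Finset.mem_filter, Finset.mem_univ, true_and, mem_inf, H.mem_regPart hx hxr]
      exact ⟨fun h => ⟨⟨cent_inf_center x h.1, h.2⟩, h.1⟩, fun h => ⟨h.2, h.1.2⟩⟩
    have hZpos : Zr.card ≠ 0 := hZ ▸ Nat.card_pos.ne'
    set k := Zr.card.factorization q with hk
    have hka : k < a.factorization q := lt_of_le_of_lt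
      (hk ▸ hZ ▸ factorization_card_le inf_le_right q) (H.thick_of_deficient hq).2.2
    have ha : q ^ (k + 1) ∣ a := (pow_dvd_pow q hka).trans (Nat.ordProj_dvd a q)
    set n := Nat.card G / p ^ (Nat.card G).factorization p with hn
    have hRn : n ∣ R.card := by
      have h := CfsgLib.StructC.dvd_card_pow_eq_one (G := G) n (Nat.ordCompl_dvd _ _)
      rw [Nat.card_eq_fintype_card, Fintype.card_subtype] at h
      convert h using 2
      ext y
      simp only [R, Finset.mem_filter, Finset.mem_univ, true_and]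
      refine ⟨fun hy => orderOf_dvd_iff_pow_eq_one.1 ?_, fun hy hd => ?_⟩
      · exact (((H.prime.coprime_iff_not_dvd).2 hy).symm.pow_right _).dvd_of_dvd_mul_left
          ((Nat.ordProj_mul_ordCompl_eq_self (Nat.card G) p).symm ▸ orderOf_dvd_natCard y)
      · exact Nat.not_dvd_ordCompl H.prime Nat.card_pos.ne' (hd.trans (orderOf_dvd_of_pow_eq_one hy))
    have hqn : q ^ (k + 1) ∣ n := by
      refine (((Nat.coprime_primes hq.1 H.prime).2 hq.2.1).pow _
        ((Nat.card G).factorization p)).dvd_of_dvd_mul_left ?_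
      rw [hn, Nat.ordProj_mul_ordCompl_eq_self]
      exact (pow_dvd_pow q (lt_trans hka hq.2.2)).trans (Nat.ordProj_dvd _ q)
    have hqR : q ^ (k + 1) ∣ R.card := hqn.trans hRn
    have hle : Zr.card ≤ a := by
      rw [hZ, ← H.card x hx hxr]
      exact Nat.le_of_dvd Nat.card_pos (card_dvd_of_le inf_le_left)
    have e : R.card + Nat.card α * Zr.card = Zr.card + Nat.card α * a := by
      rw [hR, hfib, add_assoc, ← mul_add, Nat.sub_add_cancel hle]
    have h1 : q ^ (k + 1) ∣ Nat.card α * Zr.card := by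
      rw [pow_succ']; exact mul_dvd_mul hdvd (Nat.ordProj_dvd _ q)
    have h2 : q ^ (k + 1) ∣ Zr.card :=
      (Nat.dvd_add_left (ha.mul_left _)).1 (e ▸ dvd_add hqR h1)
    exact Nat.pow_succ_factorization_not_dvd hZpos hq.1 h2
  obtain ⟨⟨S, y, hy, hyr, rfl⟩, hS⟩ :=
    Q.isPGroup'.nonempty_fixed_point_of_prime_not_dvd_card α hnd
  refine ⟨y, hy, hyr, Q, fun g hg => H.mem_normalizer hy hyr (H.self_mem hy hyr) hy ?_⟩
  have h1 : MulAut.conj g • regPart p y = regPart p y := congrArg Subtype.val (hS ⟨g, hg⟩)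
  have := smul_mem_pointwise_smul y (MulAut.conj g) _ (H.self_mem hy hyr)
  rw [h1] at this
  exact this

end CfsgLib.Perm.TwoRegularSizes
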