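import Mathlib

/-!
A norm argument: two automorphisms of prime orders generating a group all of whose nontrivial
elements have small fixed points.
-/

set_option autoImplicit false

namespace CfsgLib.Perm.TwoRegularSizes

open Finset

variable {V : Type*} [CommGroup V]

/-- `1 + j + ... + j ^ (k - 1)`. -/
def geom (j k : ℕ) : ℕ := ∑ i ∈ range k, j ^ i

theorem conj_pow_eq {M : Type*} [Group M] {a b : M} {j : ℕ} (hab : b * a * b⁻¹ = a ^ j) (n : ℕ) :
    b * a ^ n = a ^ (j * n) * b := by
  rw [pow_mul, ← hab, conj_pow]; group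

theorem mul_pow_eq {M : Type*} [Group M] {a b : M} {j : ℕ} (hab : b * a * b⁻¹ = a ^ j) (i k : ℕ) :
    (a ^ i * b) ^ k = a ^ (i * geom j k) * b ^ k := by
  induction k with
  | zero => simp [geom]
  | succ k ih =>
    have h1 : geom j (k + 1) = 1 + j * geom j k := by
      rw [geom, geom, sum_range_succ', mul_sum]
      simp [pow_succ, mul_comm, add_comm]
    calc (a ^ i * b) ^ (k + 1) = a ^ i * (b * a ^ (i * geom j k)) * b ^ k := by
          rw [pow_succ', ih]; group
      _ = a ^ (i * geom j (k + 1)) * b ^ (k + 1) := by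
          rw [conj_pow_eq hab, h1, pow_succ', show i * (1 + j * geom j k) = i + j * (i * geom j k) by ring,
            pow_add]
          group

/-- The product over the powers of an automorphism of order dividing `n` is fixed. -/
theorem apply_prod_pow (c : MulAut V) {n : ℕ} (hc : c ^ n = 1) (v : V) :
    c (∏ k ∈ range n, (c ^ k) v) = ∏ k ∈ range n, (c ^ k) v := by
  rw [map_prod]
  have h1 := prod_range_succ' (fun k => (c ^ k) v) n
  have h2 := prod_range_succ (fun k => (c ^ k) v) n
  rw [h2, hc, MulAut.one_apply, pow_zero, MulAut.one_apply] at h1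
  refine (prod_congr rfl fun k _ => ?_).trans (mul_right_cancel h1).symm
  rw [pow_succ', MulAut.mul_apply]

/-- An automorphism whose proper power fixes a point fixes it. -/
theorem fixed_of_pow_fixed (a : MulAut V) {r s : ℕ} (hr : r.Prime) (ha : a ^ r = 1) (hs : ¬ r ∣ s)
    {v : V} (h : (a ^ s) v = v) : a v = v := by
  have hco : s.Coprime r := ((hr.coprime_iff_not_dvd).2 hs).symm
  obtain ⟨t, -, ht⟩ := Nat.exists_mul_mod_eq_one_of_coprime hco hr.one_lt
  have hfix : ∀ t : ℕ, ((a ^ s) ^ t) v = v := fun t => by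
    induction t with
    | zero => simp
    | succ t ih => rw [pow_succ, MulAut.mul_apply, h, ih]
  have e : (a ^ s) ^ t = a := by
    rw [← pow_mul]
    conv_rhs => rw [← pow_one a]
    rw [pow_eq_pow_iff_modEq]
    refine Nat.ModEq.of_dvd (orderOf_dvd_of_pow_eq_one ha) ?_
    rw [Nat.ModEq, ht, Nat.mod_eq_of_lt hr.one_lt]
  conv_lhs => rw [← e]
  exact hfix t

/-- The norm argument: such a pair acts trivially modulo the fixed points. -/
theorem forall_mem_of_free (C : Subgroup V) (a b : MulAut V) {r q j : ℕ} (hr : r.Prime) (hq : 0 < q)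
    (ha : a ^ r = 1) (hb : b ^ q = 1) (hab : b * a * b⁻¹ = a ^ j)
    (hfa : ∀ v, a v = v → v ∈ C) (hfab : ∀ i v, (a ^ i * b) v = v → v ∈ C)
    (hS : ∀ k, 0 < k → k < q → ¬ r ∣ geom j k) (hSq : r ∣ geom j q)
    (hco : ∀ v : V, v ^ r ∈ C → v ∈ C) (v : V) : v ∈ C := by
  refine hco v ?_
  have hinner : ∀ i, ∏ k ∈ range q, ((a ^ i * b) ^ k) v ∈ C := fun i => by
    refine hfab i _ (apply_prod_pow _ ?_ v)
    rw [mul_pow_eq hab, hb, mul_one]
    obtain ⟨c, hc⟩ := hSq
    rw [hc, ← mul_assoc, mul_comm i r, mul_assoc, pow_mul, ha, one_pow]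
  have hall : ∏ i ∈ range r, ∏ k ∈ range q, ((a ^ i * b) ^ k) v ∈ C :=
    Subgroup.prod_mem _ fun i _ => hinner i
  rw [prod_comm] at hall
  have hrest : ∀ k ∈ (range q).erase 0, ∏ i ∈ range r, ((a ^ i * b) ^ k) v ∈ C := by
    intro k hk
    obtain ⟨hk0, hkq⟩ := mem_erase.1 hk
    refine hfa _ (fixed_of_pow_fixed a hr ha (hS k (Nat.pos_of_ne_zero hk0) (mem_range.1 hkq)) ?_)
    rw [prod_congr rfl fun i _ => show ((a ^ i * b) ^ k) v = ((a ^ geom j k) ^ i) ((b ^ k) v) by
      rw [mul_pow_eq hab, ← pow_mul, mul_comm i, MulAut.mul_apply]]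
    refine apply_prod_pow _ ?_ _
    rw [← pow_mul, mul_comm, pow_mul, ha, one_pow]
  rw [← mul_prod_erase _ _ (mem_range.2 hq)] at hall
  have h0 := (C.mul_mem_cancel_right (Subgroup.prod_mem _ hrest)).1 hall
  simpa using h0

end CfsgLib.Perm.TwoRegularSizes
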