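import Cfsg.Agent.Lib.Perm.TwoRegularSizes.Local
import Cfsg.Agent.Lib.StructB.Kazarin
import Cfsg.Agent.Lib.Coprime.Complements
import Cfsg.Agent.Lib.Solvable.PCore
import Cfsg.Agent.Lib.Solvable.MinNormal

/-!
# No prime is deficient
-/

set_option autoImplicit false
set_option linter.unusedSectionVars false

namespace CfsgLib.Perm.TwoRegularSizes

open Subgroup
open CfsgLib.InvChar.ConjRank (cent mem_cent self_mem_cent mem_cent_comm factorization_card_le
  factorization_le_of_dvd)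
open CfsgLib.Perm.ThreeSizes.Thick (Pr part mem_part part_le part_isPGroup normalizer_le_part
  order_pow_iff cent_inf_center cent_eq_top cmod mem_cmod_iff mem_cmod_of_commute)

universe u
variable {G : Type u} [Group G] [Finite G] {p a : ℕ}

/-- Without a noncentral normal `p`-subgroup there is no deficient prime. -/
theorem Hyp.false_of_deficient_of_core (H : Hyp G p a)
    (hE : ∀ E : Subgroup G, E.Normal → IsPGroup p E → E ≤ center G) {q : ℕ}
    (hq : Deficient G p a q) : False := by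
  classical
  have : Fact q.Prime := ⟨hq.1⟩
  obtain ⟨x, hx, hxr⟩ := H.exists_reg
  obtain ⟨Q, hQ⟩ := H.sylow_le hx hxr hq
  obtain ⟨-, u, hu, hucen, hufix⟩ := H.of_sylow_le hx hxr hq Q hQ
  set π := QuotientGroup.mk' (center G)
  -- the class of `π u` has prime power size
  have hind : ∀ d : ℕ, d.Prime → d ∣ (cent (π u)).index → d = p := by
    intro s hs hd
    by_contra hsp
    have hidx : (cmod u).index = (cent (π u)).index :=
      index_comap_of_surjective _ (QuotientGroup.mk'_surjective _)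
    have h1 : (Nat.card G).factorization s ≤ (Nat.card (cmod u)).factorization s := by
      by_cases hsq : s = q
      · subst hsq
        refine le_trans ?_ (factorization_card_le (H := (Q : Subgroup G))
          (fun g hg => mem_cmod_iff.2 (hufix g hg)) s)
        rw [Q.card_eq_multiplicity, hs.factorization_pow, Finsupp.single_eq_same]
      · have hnd : ¬ Deficient G p a s := fun h => hsq (H.deficient_unique hx hxr h hq)
        refine le_trans ?_ (factorization_card_le (H := cent x)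
          (fun g hg => mem_cmod_of_commute (mem_cent.1 ((H.cent_eq hx hxr hu hucen).symm ▸ hg))) s)
        rw [H.fac_eq hx hxr hs hsp]
        exact not_lt.1 fun h => hnd ⟨hs, hsp, h⟩
    rw [← (cmod u).card_mul_index, Nat.factorization_mul Nat.card_pos.ne' index_ne_zero_of_finite,
      Finsupp.add_apply, hidx] at h1
    have := hs.factorization_pos_of_dvd index_ne_zero_of_finite hd
    omega
  have hpow := Nat.eq_prime_pow_of_unique_prime_dvd index_ne_zero_of_finite
    fun {d} hd hdd => hind d hd hdd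
  have hsol := CfsgLib.StructB.Kazarin.isSolvable_normalClosure H.prime _ _ (G ⧸ center G) rfl (π u)
    (dvd_of_eq hpow)
  have hne : normalClosure ({π u} : Set (G ⧸ center G)) ≠ ⊥ := fun h => hucen ((QuotientGroup.eq_one_iff u).1
    (mem_bot.1 (h.le (subset_normalClosure (Set.mem_singleton _)))))
  obtain ⟨M, hMn, hMne, hMle, hMmin⟩ := CfsgLib.Solvable.exists_minimal_normal_le normalClosure_normal hne
  have := hMn
  have : Group.IsSolvable M := CfsgLib.Coprime.isSolvable_of_le hsol hMle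
  obtain ⟨s, hs, hMs, -, hMc⟩ := CfsgLib.Solvable.exists_isPGroup_of_minimal_normal hMne hMmin
  have : Fact s.Prime := ⟨hs⟩
  -- the `s`-part of its preimage
  set L := M.comap π with hL
  have hLnil : Group.IsNilpotent L := by
    have : Group.IsNilpotent M := hMs.isNilpotent
    refine Subgroup.isNilpotent_of_ker_le_center ((π.domRestrict L).codRestrict M fun y => y.2)
      fun y hy => mem_center_iff.2 fun z => Subtype.ext ?_
    have h1 : π (y : G) = 1 := congrArg Subtype.val (MonoidHom.mem_ker.1 hy)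
    exact mem_center_iff.1 ((QuotientGroup.eq_one_iff _).1 h1) z
  obtain ⟨S⟩ := (inferInstance : Nonempty (Sylow s L))
  have hSn : (S : Subgroup L).Normal :=
    Sylow.normal_of_normalizerCondition Group.normalizerCondition_of_isNilpotent S
  have hSch : (S : Subgroup L).Characteristic := S.characteristic_of_normal hSn
  set W := (S : Subgroup L).map L.subtype with hW
  have hWn : W.Normal := inferInstance
  have hWs : IsPGroup s W := S.isPGroup'.map _
  obtain ⟨w₀, hw₀, hw₀c⟩ : ∃ w ∈ W, w ∉ center G := by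
    obtain ⟨m, hm, hm1⟩ := (bot_or_exists_ne_one M).resolve_left hMne
    obtain ⟨i, hi⟩ := hMs.exists_orderOf_eq_pow ⟨m, hm⟩
    rw [orderOf_mk] at hi
    obtain ⟨v, rfl⟩ := QuotientGroup.mk'_surjective (center G) m
    obtain ⟨w, hw, hwv, e, he⟩ := exists_primary_lift π (S := L) hs hm hi
    refine ⟨w, ?_, fun h => hm1 (hwv.symm.trans ((QuotientGroup.eq_one_iff w).2 h))⟩
    have hp' : IsPGroup s (zpowers (⟨w, hw⟩ : L)) := IsPGroup.of_card (n := e)
      (by rw [Nat.card_zpowers, orderOf_mk, he])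
    have h1 := S.isPGroup'.to_sup_of_normal_left hp'
    exact ⟨⟨w, hw⟩, S.is_maximal' h1 le_sup_left ▸ mem_sup_right (mem_zpowers _), rfl⟩
  have hsp : s ≠ p := fun e => hw₀c (hE W hWn (e ▸ hWs) hw₀)
  have hWreg : ∀ w ∈ W, IsReg p w := fun w hw => by
    obtain ⟨i, hi⟩ := hWs.exists_orderOf_eq_pow ⟨w, hw⟩
    rw [orderOf_mk] at hi
    exact isReg_of_order H.prime hs hsp ⟨i, hi⟩
  have hWc : ∀ v ∈ W, ∀ w ∈ W, v * w * v⁻¹ * w⁻¹ ∈ center G := by
    rintro _ ⟨v, -, rfl⟩ _ ⟨w, -, rfl⟩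
    have h1 : π (v : G) * π (w : G) = π (w : G) * π (v : G) := by
      have := hMc.is_comm.comm (⟨π v, v.2⟩ : M) ⟨π w, w.2⟩
      exact congrArg Subtype.val this
    rw [← QuotientGroup.eq_one_iff, ← QuotientGroup.mk'_apply]
    simp only [map_mul, map_inv, Subgroup.coe_subtype]
    rw [h1, mul_inv_cancel_right, mul_inv_cancel]
  have hw₀r := hWreg w₀ hw₀
  set A₀ := regPart p w₀
  -- `W` lies in one regular part
  obtain ⟨r, hrs, hr⟩ := H.exists_thick_ne s
  obtain ⟨y, hy, hyr⟩ := H.exists_pr hw₀c hw₀r hr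
  have hcy : cent y = cent w₀ := H.cent_eq hw₀c hw₀r hy hyr.2.1
  have hWA : W ≤ A₀ := by
    intro w hw
    refine (H.mem_regPart hw₀c hw₀r).2 ⟨hcy ▸ ?_, hWreg w hw⟩
    set e := y * w * y⁻¹ * w⁻¹ with he
    have heW : e ∈ W := mul_mem (hWn.conj_mem w hw y) (inv_mem hw)
    have hyw₀ : Commute y w₀ := mem_cent.1 ((H.mem_regPart hw₀c hw₀r).1 hy).1
    set c := w₀ * w * w₀⁻¹ * w⁻¹ with hc
    have hcc : ∀ k : G, k * c = c * k := mem_center_iff.1 (hWc w₀ hw₀ w hw)
    have h1 : w₀ * (y * w * y⁻¹) * w₀⁻¹ = c * (y * w * y⁻¹) :=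
      calc w₀ * (y * w * y⁻¹) * w₀⁻¹ = (w₀ * y) * w * (w₀ * y)⁻¹ := by group
        _ = (y * w₀) * w * (y * w₀)⁻¹ := by rw [hyw₀.eq]
        _ = y * c * w * y⁻¹ := by rw [hc]; group
        _ = c * (y * w * y⁻¹) := by rw [hcc y]; group
    have hew₀ : Commute e w₀ := by
      refine (mul_inv_eq_iff_eq_mul.1 ?_).symm
      calc w₀ * e * w₀⁻¹ = (w₀ * (y * w * y⁻¹) * w₀⁻¹) * (w₀ * w * w₀⁻¹)⁻¹ := by rw [he]; group
        _ = c * (y * w * y⁻¹) * (c * w)⁻¹ := by rw [h1, hc]; group
        _ = c * e * c⁻¹ := by rw [he]; group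
        _ = e := by rw [← hcc e, mul_inv_cancel_right]
    have heA : e ∈ A₀ := (H.mem_regPart hw₀c hw₀r).2 ⟨mem_cent.2 hew₀, hWreg e heW⟩
    have hye : Commute y e := H.comm hw₀c hw₀r y hy e heA
    have hpow : ∀ n : ℕ, y ^ n * w * (y ^ n)⁻¹ = e ^ n * w := by
      intro n
      induction n with
      | zero => simp
      | succ n ih =>
        calc y ^ (n + 1) * w * (y ^ (n + 1))⁻¹ = y * (y ^ n * w * (y ^ n)⁻¹) * y⁻¹ := by
              rw [pow_succ']; group
          _ = y * e ^ n * w * y⁻¹ := by rw [ih]; group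
          _ = e ^ n * (y * w * y⁻¹) := by rw [(hye.pow_right n).eq]; group
          _ = e ^ (n + 1) * w := by rw [pow_succ, he]; group
    have h2 := hpow (orderOf y)
    rw [pow_orderOf_eq_one, one_mul, inv_one, mul_one] at h2
    obtain ⟨i, hi⟩ := hWs.exists_orderOf_eq_pow ⟨e, heW⟩
    rw [orderOf_mk] at hi
    obtain ⟨-, -, j, hj⟩ := hyr
    have he1 : e = 1 := orderOf_eq_one_iff.1 (Nat.eq_one_of_dvd_coprimes
      (((Nat.coprime_primes hs hr.1).2 (Ne.symm hrs)).pow i j) (dvd_of_eq hi)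
      (hj ▸ orderOf_dvd_of_pow_eq_one (mul_eq_right.1 h2.symm)))
    rw [mem_cent]
    show w * y = y * w
    calc w * y = e * w * y := by rw [he1, one_mul]
      _ = y * w := by rw [he]; group
  have hN : normalizer (A₀ : Set G) = ⊤ := (eq_top_iff' _).2 fun g =>
    H.mem_normalizer hw₀c hw₀r (H.self_mem hw₀c hw₀r) hw₀c (hWA (hWn.conj_mem w₀ hw₀ g))
  -- a `q`-element outside
  obtain ⟨g, ⟨i, hi⟩, hgC⟩ : ∃ g : G, (∃ i, orderOf g = q ^ i) ∧ g ∉ cent w₀ := by
    by_contra hcon
    push Not at hcon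
    obtain ⟨R⟩ := (inferInstance : Nonempty (Sylow q G))
    have hle : (R : Subgroup G) ≤ cent w₀ := fun g hg => by
      obtain ⟨i, hi⟩ := R.isPGroup'.exists_orderOf_eq_pow ⟨g, hg⟩
      exact hcon g ⟨i, by rwa [orderOf_mk] at hi⟩
    have h1 := factorization_card_le hle q
    rw [R.card_eq_multiplicity, hq.1.factorization_pow, Finsupp.single_eq_same,
      H.fac_eq hw₀c hw₀r hq.1 hq.2.1] at h1
    exact absurd hq.2.2 (not_lt.2 h1)
  have hgc : g ∉ center G := fun h => hgC (cent_inf_center w₀ h)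
  have hgr : IsReg p g := isReg_of_order H.prime hq.1 hq.2.1 ⟨i, hi⟩
  obtain ⟨l, hlq, hl⟩ := H.exists_thick_ne q
  obtain ⟨z, hz, hzl⟩ := H.exists_pr hgc hgr hl
  have hfull : (Nat.card G).factorization l ≤ a.factorization l := not_lt.1 fun h =>
    hlq (H.deficient_unique hw₀c hw₀r ⟨hl.1, hl.2.1, h⟩ hq)
  have hzA : z ∈ A₀ := by
    have : Fact l.Prime := ⟨hl.1⟩
    have hcomm := H.comm hw₀c hw₀r
    set T := part A₀ l
    obtain ⟨j, hj⟩ := hzl.2.2
    have hTN : zpowers z ≤ normalizer (T : Set G) := fun v _ => normalizer_le_part hcomm l (hN ▸ mem_top v)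
    have h1 : IsPGroup l (T ⊔ zpowers z : Subgroup G) :=
      (part_isPGroup hcomm l).to_sup_of_normal_left' (IsPGroup.of_card (n := j)
        (by rw [Nat.card_zpowers, hj])) hTN
    obtain ⟨n, hn⟩ := IsPGroup.iff_card.1 h1
    have h2 : T = T ⊔ zpowers z := by
      refine eq_of_le_of_card_ge le_sup_left ?_
      rw [hn, H.card_part hw₀c hw₀r hl.1]
      refine Nat.pow_le_pow_right hl.1.pos (le_trans ?_ hfull)
      exact (hl.1.pow_dvd_iff_le_factorization Nat.card_pos.ne').1 (hn ▸ card_subgroup_dvd_card _)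
    exact part_le _ _ (h2 ▸ mem_sup_right (mem_zpowers z))
  have h3 : cent z = cent g := H.cent_eq hgc hgr hz hzl.2.1
  rw [H.cent_eq hw₀c hw₀r hzA hzl.2.1] at h3
  exact hgC (h3 ▸ self_mem_cent g)

/-- The coprime lifting of centralisers. -/
theorem exists_mem_cent_of_commute_mod {E : Subgroup G} [E.Normal] (hp : p.Prime) (hE : IsPGroup p E)
    {x g : G} (hxr : IsReg p x) (h : g * x * g⁻¹ * x⁻¹ ∈ E) : ∃ e ∈ E, e * g ∈ cent x := by
  have : Fact p.Prime := ⟨hp⟩
  obtain ⟨n, hn⟩ := IsPGroup.iff_card.1 hE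
  have hco : (Nat.card (zpowers x)).Coprime (Nat.card E) := by
    rw [Nat.card_zpowers, hn]; exact ((hp.coprime_iff_not_dvd).2 hxr).symm.pow_right n
  set B := zpowers (g * x * g⁻¹)
  have hBc : (Nat.card B).Coprime (Nat.card E) := by
    rwa [Nat.card_zpowers, ← MulAut.conj_apply, MulEquiv.orderOf_eq, ← Nat.card_zpowers]
  have hxgx : g * x * g⁻¹ ∈ E ⊔ zpowers x := by
    have h1 := mul_mem (mem_sup_left (T := zpowers x) h) (mem_sup_right (S := E) (mem_zpowers x))
    rwa [inv_mul_cancel_right] at h1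
  have hx' : x ∈ E ⊔ B := by
    have h1 := mul_mem (mem_sup_left (T := B) (inv_mem h)) (mem_sup_right (S := E) (mem_zpowers (g * x * g⁻¹)))
    rwa [mul_inv_rev, inv_inv, inv_mul_cancel_right] at h1
  obtain ⟨e, he, hB⟩ := CfsgLib.Coprime.exists_conj_eq_of_coprime (N := E) (A := zpowers x) (B := B)
    (normalizer_eq_top E ▸ le_top) (normalizer_eq_top E ▸ le_top)
    (le_antisymm (sup_le le_sup_left (zpowers_le.2 hx')) (sup_le le_sup_left (zpowers_le.2 hxgx))) hco hBc
    (Or.inl (Group.isSolvable_of_comm fun ⟨u, hu⟩ ⟨v, hv⟩ => Subtype.ext (by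
      obtain ⟨i, rfl⟩ := mem_zpowers_iff.1 hu
      obtain ⟨j, rfl⟩ := mem_zpowers_iff.1 hv
      exact (Commute.zpow_zpow_self x i j).eq)))
  refine ⟨e⁻¹, inv_mem he, ?_⟩
  have hy : e⁻¹ * (g * x * g⁻¹) * e ∈ zpowers x := by
    have h2 : g * x * g⁻¹ ∈ (zpowers x).map (MulAut.conj e).toMonoidHom := hB ▸ mem_zpowers _
    obtain ⟨y, hy, hye⟩ := mem_map.1 h2
    rw [← hye]
    simpa [mul_assoc] using hy
  have hyE : e⁻¹ * (g * x * g⁻¹) * e * x⁻¹ ∈ E := by
    rw [show e⁻¹ * (g * x * g⁻¹) * e * x⁻¹ = e⁻¹ * (g * x * g⁻¹ * x⁻¹) * (x * e * x⁻¹) by group]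
    exact mul_mem (mul_mem (inv_mem he) h) (Normal.conj_mem ‹_› e he x)
  have h3 : e⁻¹ * (g * x * g⁻¹) * e * x⁻¹ = 1 :=
    disjoint_def.1 (disjoint_iff.2 (CfsgLib.Coprime.inf_eq_bot_of_coprime hco))
      (mul_mem hy (inv_mem (mem_zpowers x))) hyE
  rw [mem_cent]
  show e⁻¹ * g * x = x * (e⁻¹ * g)
  calc e⁻¹ * g * x = (e⁻¹ * (g * x * g⁻¹) * e * x⁻¹) * (x * (e⁻¹ * g)) := by group
    _ = x * (e⁻¹ * g) := by rw [h3, one_mul]

/-- No prime is deficient. -/
theorem Hyp.not_deficient (H : Hyp G p a) (q : ℕ) : ¬ Deficient G p a q := by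
  classical
  intro hq
  have : Fact p.Prime := ⟨H.prime⟩
  set E := Cfsg.pCore p G with hE
  have : E.Normal := CfsgLib.Solvable.pCore_normal p G
  have hEp : IsPGroup p E := CfsgLib.Solvable.pCore_isPGroup p
  set π := QuotientGroup.mk' E
  have hπ : ∀ g, π g = 1 ↔ g ∈ E := fun g => QuotientGroup.eq_one_iff g
  -- a regular lift
  have hlift : ∀ (K : Subgroup G) (k : G), k ∈ K → IsReg p (π k) →
      ∃ v ∈ K, IsReg p v ∧ π v = π k := by
    intro K k hk hreg
    set e := (orderOf k).factorization p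
    set m := orderOf k / p ^ e
    have hco : (orderOf (π k)).Coprime (p ^ e) := (((H.prime.coprime_iff_not_dvd).2 hreg).symm).pow_right e
    obtain ⟨t, ht⟩ : ∃ t, p ^ e * t ≡ 1 [MOD orderOf (π k)] := by
      rcases Nat.lt_or_ge 1 (orderOf (π k)) with h | h
      · obtain ⟨t, -, ht⟩ := Nat.exists_mul_mod_eq_one_of_coprime hco.symm h
        exact ⟨t, by rw [Nat.ModEq, ht, Nat.mod_eq_of_lt h]⟩
      · have h1 : orderOf (π k) = 1 := by have := orderOf_pos (π k); omega
        exact ⟨0, by rw [h1]; exact Nat.modEq_one⟩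
    refine ⟨k ^ (p ^ e * t), pow_mem hk _, fun hd => ?_, ?_⟩
    · have h1 : (k ^ (p ^ e * t)) ^ m = 1 := by
        rw [← pow_mul, mul_right_comm, Nat.ordProj_mul_ordCompl_eq_self, pow_mul, pow_orderOf_eq_one,
          one_pow]
      exact Nat.not_dvd_ordCompl H.prime (orderOf_pos k).ne' (hd.trans (orderOf_dvd_of_pow_eq_one h1))
    · rw [map_pow]
      conv_rhs => rw [← pow_one (π k)]
      rw [pow_eq_pow_iff_modEq]
      exact ht
  have hcent : ∀ x : G, IsReg p x → cent (π x) = (cent x).map π := by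
    intro x hxr
    refine le_antisymm (fun k hk => ?_) ?_
    · obtain ⟨g, rfl⟩ := QuotientGroup.mk'_surjective E k
      have hk' : π g * π x = π x * π g := mem_cent.1 hk
      obtain ⟨e, he, heg⟩ := exists_mem_cent_of_commute_mod H.prime hEp (x := x) (g := g) hxr
        ((hπ _).1 (by simp only [map_mul, map_inv]; rw [hk', mul_inv_cancel_right, mul_inv_cancel]))
      exact mem_map.2 ⟨e * g, heg, by rw [map_mul, (hπ e).2 he, one_mul]⟩
    · rintro _ ⟨g, hg, rfl⟩
      exact mem_cent.2 ((mem_cent.1 hg).map π)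
  have hnc : ∀ x : G, x ∉ center G → IsReg p x → π x ∉ center (G ⧸ E) := by
    intro x hx hxr hc
    have htop : E ⊔ cent x = ⊤ := (eq_top_iff' _).2 fun g => by
      have h1 : π g ∈ cent (π x) := mem_cent.2 (mem_center_iff.1 hc (π g))
      rw [hcent x hxr] at h1
      obtain ⟨c, hc', he⟩ := mem_map.1 h1
      have h2 : g * c⁻¹ ∈ E := (hπ _).1 (by rw [map_mul, map_inv, he, mul_inv_cancel])
      have h3 := mul_mem (mem_sup_left (T := cent x) h2) (mem_sup_right (S := E) hc')
      rwa [inv_mul_cancel_right] at h3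
    have h1 := CfsgLib.StructB.Kazarin.relIndex_sup_normal_eq E (cent x)
    rw [htop, relIndex_top_right] at h1
    obtain ⟨n, hn⟩ := IsPGroup.iff_card.1 hEp
    have h2 : (cent x).index ∣ p ^ n := h1 ▸ hn ▸ relIndex_dvd_card _ _
    obtain ⟨i, -, hi⟩ := (Nat.dvd_prime_pow H.prime).1 h2
    have h4 : (Nat.card G).factorization q = a.factorization q + 0 := by
      rw [← (cent x).card_mul_index, Nat.factorization_mul Nat.card_pos.ne' index_ne_zero_of_finite,
        Finsupp.add_apply, H.fac_eq hx hxr hq.1 hq.2.1, hi, H.prime.factorization_pow,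
        Finsupp.single_eq_of_ne hq.2.1]
    have := hq.2.2
    omega
  have hrep : ∀ k : G ⧸ E, k ∉ center (G ⧸ E) → IsReg p k →
      ∃ x : G, x ∉ center G ∧ IsReg p x ∧ π x = k := by
    intro k hk hkr
    obtain ⟨g, rfl⟩ := QuotientGroup.mk'_surjective E k
    obtain ⟨x, -, hxr, hx⟩ := hlift ⊤ g (mem_top g) hkr
    refine ⟨x, fun hc => hk ?_, hxr, hx⟩
    rw [← hx]
    exact mem_center_iff.2 fun v => by
      obtain ⟨v, rfl⟩ := QuotientGroup.mk'_surjective E v
      exact ((show Commute v x from mem_center_iff.1 hc v).map π).eq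
  have hregmap : ∀ x : G, IsReg p x → IsReg p (π x) := fun x hx hd => hx (hd.trans (orderOf_map_dvd π x))
  have hcentre : ∀ s : ℕ, s.Prime → s ≠ p →
      (Nat.card (center (G ⧸ E))).factorization s ≤ (Nat.card (center G)).factorization s := by
    intro s hs hsp
    have : Fact s.Prime := ⟨hs⟩
    obtain ⟨S⟩ := (inferInstance : Nonempty (Sylow s (center (G ⧸ E))))
    have hle : (S : Subgroup (center (G ⧸ E))).map (center (G ⧸ E)).subtype ≤ (center G).map π := by
      rintro _ ⟨k, hk, rfl⟩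
      obtain ⟨i, hi⟩ := S.isPGroup'.exists_orderOf_eq_pow ⟨k, hk⟩
      rw [orderOf_mk, ← orderOf_coe] at hi
      obtain ⟨g, hg⟩ := QuotientGroup.mk'_surjective E (k : G ⧸ E)
      have hkr : IsReg p (k : G ⧸ E) := isReg_of_order H.prime hs hsp ⟨i, hi⟩
      rw [← hg] at hkr
      obtain ⟨z, -, hzr, hz⟩ := hlift ⊤ g (mem_top g) hkr
      refine mem_map.2 ⟨z, ?_, hz.trans hg⟩
      by_contra hzc
      refine hnc z hzc hzr ?_
      rw [hz, hg]
      exact k.2
    refine le_trans ?_ (factorization_le_of_dvd Nat.card_pos.ne' (card_map_dvd (center G) π) s)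
    refine le_trans ?_ (factorization_card_le hle s)
    rw [card_map_of_injective (center (G ⧸ E)).subtype_injective, S.card_eq_multiplicity,
      hs.factorization_pow, Finsupp.single_eq_same]
  have H' : Hyp (G ⧸ E) p a := by
    refine ⟨H.prime, fun k l hk hl hkr hlr hkl => ?_, fun k hk hkr => ?_, ?_, ?_⟩
    · obtain ⟨x, hx, hxr, rfl⟩ := hrep k hk hkr
      have hl' : l ∈ (cent x).map π := hcent x hxr ▸ mem_cent.2 hkl.symm
      obtain ⟨y, hy, rfl⟩ := mem_map.1 hl'
      obtain ⟨v, hv, hvr, hvy⟩ := hlift (cent x) y hy hlr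
      rw [← hvy] at hl ⊢
      have hvc : v ∉ center G := fun hc => hl (mem_center_iff.2 fun w => by
        obtain ⟨w, rfl⟩ := QuotientGroup.mk'_surjective E w
        exact ((show Commute w v from mem_center_iff.1 hc w).map π).eq)
      rw [hcent x hxr, hcent v hvr, H.eq x v hx hvc hxr hvr (mem_cent.1 hv).symm]
    · obtain ⟨x, hx, hxr, rfl⟩ := hrep k hk hkr
      have heq : regPart p (π x) = (regPart p x).map π := by
        refine le_antisymm ((closure_le _).2 ?_) ?_
        · rintro l ⟨hl, hlr⟩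
          rw [hcent x hxr] at hl
          obtain ⟨y, hy, rfl⟩ := mem_map.1 hl
          obtain ⟨v, hv, hvr, hvy⟩ := hlift (cent x) y hy hlr
          exact mem_map.2 ⟨v, (H.mem_regPart hx hxr).2 ⟨hv, hvr⟩, hvy⟩
        · rintro _ ⟨v, hv, rfl⟩
          obtain ⟨hv1, hv2⟩ := (H.mem_regPart hx hxr).1 hv
          exact subset_closure ⟨hcent x hxr ▸ mem_map_of_mem π hv1, hregmap v hv2⟩
      rw [heq, ← H.card x hx hxr]
      refine (Nat.card_congr (Equiv.ofBijective (fun v : regPart p x =>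
        (⟨π v, mem_map_of_mem π v.2⟩ : (regPart p x).map π)) ⟨fun v w h => ?_, ?_⟩)).symm
      · have h1 : π (v : G) = π w := congrArg Subtype.val h
        have h2 : (v : G)⁻¹ * w ∈ E := QuotientGroup.eq.1 h1
        have h3 := (H.mem_regPart hx hxr).1 (mul_mem (inv_mem v.2) w.2)
        refine Subtype.ext (inv_mul_eq_one.1 ?_)
        obtain ⟨i, hi⟩ := hEp.exists_orderOf_eq_pow ⟨_, h2⟩
        rw [orderOf_mk] at hi
        rcases i with _ | i
        · exact orderOf_eq_one_iff.1 (by rw [hi, pow_zero])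
        · exact absurd (hi ▸ dvd_pow_self p i.succ_ne_zero) h3.2
      · rintro ⟨_, v, hv, rfl⟩
        exact ⟨⟨v, hv⟩, rfl⟩
    · obtain ⟨x, hx, hxr⟩ := H.exists_reg
      exact ⟨π x, hnc x hx hxr, hregmap x hxr⟩
    · obtain ⟨u, v, hu, hv, huv, hup, hvp, h1, h2⟩ := H.two
      exact ⟨u, v, hu, hv, huv, hup, hvp, (hcentre u hu hup).trans_lt h1, (hcentre v hv hvp).trans_lt h2⟩
  refine H'.false_of_deficient_of_core (fun N hN hNp => ?_) (q := q) ⟨hq.1, hq.2.1, ?_⟩
  · intro k hk
    obtain ⟨g, rfl⟩ := QuotientGroup.mk'_surjective E k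
    have h1 : N.comap π ≤ E := CfsgLib.Solvable.le_pCore (hN.comap π)
      (hNp.comap_of_ker_isPGroup π (by rw [QuotientGroup.ker_mk']; exact hEp))
    rw [(hπ g).2 (h1 hk)]
    exact one_mem _
  · obtain ⟨n, hn⟩ := IsPGroup.iff_card.1 hEp
    have h1 : (Nat.card G).factorization q = (Nat.card (G ⧸ E)).factorization q + 0 := by
      rw [card_eq_card_quotient_mul_card_subgroup E, Nat.factorization_mul Nat.card_pos.ne' Nat.card_pos.ne',
        Finsupp.add_apply, hn, H.prime.factorization_pow, Finsupp.single_eq_of_ne hq.2.1]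
    have := hq.2.2
    omega

end CfsgLib.Perm.TwoRegularSizes
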