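import Cfsg.Agent.Lib.Perm.TwoRegularSizes.Basic
import Cfsg.Agent.Lib.Perm.TwoRegularSizes.Free
import Cfsg.Agent.Lib.Transfer.HallComplement
import Cfsg.Agent.Lib.Solvable.Products

/-!
# The normaliser of a regular part when some prime is deficient
-/

set_option autoImplicit false
set_option linter.unusedSectionVars false

namespace CfsgLib.Perm.TwoRegularSizes

open Subgroup
open CfsgLib.InvChar.ConjRank (cent mem_cent self_mem_cent mem_cent_comm factorization_card_le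
  mem_of_parts mem_of_pow_coprime)
open CfsgLib.Perm.ThreeSizes.Thick (Pr part mem_part part_le part_isPGroup normalizer_le_part key
  exists_normalizing order_pow_iff cent_inf_center)

universe u
variable {G : Type u} [Group G] [Finite G]

/-- Lift a prime power element through a quotient to a prime power element. -/
theorem exists_primary_lift {K : Type*} [Group K] (f : G →* K) {S : Subgroup G} {s i : ℕ}
    (hs : s.Prime) {v : G} (hv : v ∈ S) (ho : orderOf (f v) = s ^ i) :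
    ∃ w ∈ S, f w = f v ∧ ∃ e, orderOf w = s ^ e := by
  set e := (orderOf v).factorization s with he
  set m := orderOf v / s ^ e with hm
  have h0 : orderOf v ≠ 0 := (orderOf_pos v).ne'
  have hco : (s ^ i).Coprime m := (Nat.coprime_ordCompl hs h0).pow_left i
  obtain ⟨t, ht⟩ : ∃ t, m * t ≡ 1 [MOD s ^ i] := by
    rcases Nat.eq_zero_or_pos i with hi | hi
    · exact ⟨0, by rw [hi, pow_zero]; exact Nat.modEq_one⟩
    · have h1 : 1 < s ^ i := Nat.one_lt_pow hi.ne' hs.one_lt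
      obtain ⟨t, -, ht⟩ := Nat.exists_mul_mod_eq_one_of_coprime hco.symm h1
      exact ⟨t, by rw [Nat.ModEq, ht, Nat.mod_eq_of_lt h1]⟩
  refine ⟨v ^ (m * t), pow_mem hv _, ?_, (order_pow_iff hs).1 ⟨e, ?_⟩⟩
  · rw [map_pow]
    conv_rhs => rw [← pow_one (f v)]
    rw [pow_eq_pow_iff_modEq, ho]
    exact ht
  · rw [← pow_mul, show m * t * s ^ e = orderOf v * t by
      rw [hm, mul_right_comm, mul_comm _ (s ^ e), he, Nat.ordProj_mul_ordCompl_eq_self],
      pow_mul, pow_orderOf_eq_one, one_pow]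

variable {p a : ℕ} (H : Hyp G p a) {x : G} (hx : x ∉ center G) (hxr : IsReg p x)
include H hx hxr

local notation "A" => regPart p x
local notation "NA" => normalizer (regPart p x : Set G)

/-- The norm argument inside the normaliser of a regular part. -/
theorem Hyp.false_of_pair {r s j l : ℕ} (hr : r.Prime) (hs : 0 < s) (hl : Thick G p a l) (hlr : l ≠ r)
    {g h : G} (hg : g ∈ NA) (hh : h ∈ NA) (hgC : g ∉ cent x) (hgr : g ^ r ∈ cent x)
    (hhs : h ^ s ∈ cent x) (hab : h * g * h⁻¹ * (g ^ j)⁻¹ ∈ cent x)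
    (hfree : ∀ i : ℕ, g ^ i * h ∉ cent x) (hS : ∀ k, 0 < k → k < s → ¬ r ∣ geom j k)
    (hSs : r ∣ geom j s) : False := by
  set V := part A l with hV
  have hcomm := H.comm hx hxr
  let _ : CommGroup V :=
    { (inferInstance : Group V) with
      mul_comm := fun u v => Subtype.ext (hcomm _ (part_le _ _ u.2) _ (part_le _ _ v.2)).eq }
  have hN : NA ≤ normalizer (V : Set G) := normalizer_le_part hcomm l
  let ρ : normalizer (V : Set G) →* MulAut V := normalizerMonoidHom V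
  have hval : ∀ (k : normalizer (V : Set G)) (v : V), ((ρ k v : V) : G) = (k : G) * v * (k : G)⁻¹ :=
    fun _ _ => rfl
  have htriv : ∀ k : normalizer (V : Set G), (k : G) ∈ cent x → ρ k = 1 := fun k hk =>
    MulEquiv.ext fun v => Subtype.ext (by
      have hvA := part_le _ _ v.2
      rw [hval, H.commute hx hxr ((H.mem_regPart hx hxr).1 hvA).1 hk ((H.mem_regPart hx hxr).1 hvA).2,
        mul_inv_cancel_right]
      rfl)
  have hfix : ∀ k : normalizer (V : Set G), (k : G) ∉ cent x → ∀ v : V, ρ k v = v →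
      v ∈ (center G).subgroupOf V := fun k hk v hv => by
    have h1 : (k : G) * v * (k : G)⁻¹ = v := by rw [← hval, hv]
    exact mem_subgroupOf.2 (H.mem_center_of_fixed hx hxr (part_le _ _ v.2)
      (mul_inv_eq_iff_eq_mul.1 h1) hk)
  set a' : normalizer (V : Set G) := ⟨g, hN hg⟩
  set b' : normalizer (V : Set G) := ⟨h, hN hh⟩
  refine H.part_not_center hx hxr hl fun v hv => ?_
  have := forall_mem_of_free ((center G).subgroupOf V) (ρ a') (ρ b') (j := j) hr hs
    (by rw [← map_pow]; exact htriv _ hgr) (by rw [← map_pow]; exact htriv _ hhs)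
    (by
      have h1 := htriv (b' * a' * b'⁻¹ * (a' ^ j)⁻¹) hab
      rw [map_mul, map_inv, mul_inv_eq_one, map_pow] at h1
      rw [← h1]; simp)
    (hfix _ hgC) (fun i w hw => hfix (a' ^ i * b') (hfree i) w (by rw [map_mul, map_pow]; exact hw))
    hS hSs (fun w hw => ?_) ⟨v, hv⟩
  · exact this
  · obtain ⟨i, hi⟩ := (part_isPGroup hcomm l) w
    exact mem_of_pow_coprime _ (((Nat.coprime_primes hl.1 hr).2 hlr).pow_left i)
      (by rw [hi]; exact one_mem _) hw

/-- A coprime element normalising a cyclic subgroup of prime order modulo the centraliser is trivial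
modulo it. -/
theorem Hyp.mem_cent_of_normalizing {q : ℕ} (hq : Thick G p a q) {g : G} (hg : g ∈ NA)
    (hgq : ∃ i, orderOf g = q ^ i) (hgC : g ∉ cent x) (hgq' : g ^ q ∈ cent x) {s : ℕ} (hs : s.Prime)
    (hsq : s ≠ q) {v : G} (hv : v ∈ NA) (hvs : ∃ i, orderOf v = s ^ i) (j : ℕ)
    (hconj : v * g * v⁻¹ * (g ^ j)⁻¹ ∈ cent x) : v ∈ cent x := by
  classical
  by_contra hvC
  set C' := (cent x).subgroupOf NA with hC'
  have : C'.Normal := ⟨fun c hc k => mem_subgroupOf.2 (H.conj_mem_cent hx hxr k.2 (mem_subgroupOf.1 hc))⟩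
  set φ := QuotientGroup.mk' C'
  have hφ : ∀ k : NA, φ k = 1 ↔ (k : G) ∈ cent x := fun k =>
    (QuotientGroup.eq_one_iff k).trans mem_subgroupOf
  -- the last power outside
  obtain ⟨w, hw, hwC, hwC', hwconj, hwo⟩ : ∃ w, w ∈ NA ∧ w ∉ cent x ∧ w ^ s ∈ cent x ∧
      (∃ j : ℕ, w * g * w⁻¹ * (g ^ j)⁻¹ ∈ cent x) ∧ ∃ i, orderOf w = s ^ i := by
    have hex : ∃ i, v ^ s ^ i ∈ cent x := by
      obtain ⟨i, hi⟩ := hvs
      exact ⟨i, by rw [← hi, pow_orderOf_eq_one]; exact one_mem _⟩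
    cases hf : Nat.find hex with
    | zero => exact absurd (by simpa [hf] using Nat.find_spec hex) hvC
    | succ i =>
      refine ⟨v ^ s ^ i, pow_mem hv _, Nat.find_min hex (by omega), ?_, ⟨j ^ s ^ i, ?_⟩, ?_⟩
      · rw [← pow_mul, ← pow_succ, ← hf]; exact Nat.find_spec hex
      · have hb : φ ⟨v, hv⟩ * φ ⟨g, hg⟩ * (φ ⟨v, hv⟩)⁻¹ = φ ⟨g, hg⟩ ^ j := by
          have := (hφ (⟨v, hv⟩ * ⟨g, hg⟩ * (⟨v, hv⟩ : NA)⁻¹ * (⟨g, hg⟩ ^ j)⁻¹)).2 hconj
          rwa [map_mul, map_inv, map_pow, mul_inv_eq_one, map_mul, map_mul, map_inv] at this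
        have hb' : ∀ n : ℕ, φ ⟨v, hv⟩ ^ n * φ ⟨g, hg⟩ * (φ ⟨v, hv⟩ ^ n)⁻¹ = φ ⟨g, hg⟩ ^ j ^ n := fun n => by
          induction n with
          | zero => simp
          | succ n ih =>
            have e : φ ⟨v, hv⟩ * φ ⟨g, hg⟩ ^ j ^ n * (φ ⟨v, hv⟩)⁻¹ =
                φ ⟨g, hg⟩ ^ j ^ (n + 1) := by
              rw [← conj_pow, hb, ← pow_mul, pow_succ']
            rw [← e, ← ih, pow_succ']; group
        have h2 : φ (⟨v, hv⟩ ^ s ^ i * ⟨g, hg⟩ * ((⟨v, hv⟩ : NA) ^ s ^ i)⁻¹ *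
            (⟨g, hg⟩ ^ j ^ s ^ i)⁻¹) = 1 := by
          simp only [map_mul, map_inv, map_pow]
          rw [hb', mul_inv_cancel]
        simpa using (hφ _).1 h2
      · obtain ⟨e, he⟩ := hvs
        obtain ⟨e', -, he'⟩ := (Nat.dvd_prime_pow hs).1 (he ▸ orderOf_pow_dvd (x := v) (s ^ i))
        exact ⟨e', he'⟩
  obtain ⟨j, hj⟩ := hwconj
  set a₀ := φ ⟨g, hg⟩ with ha₀
  set b₀ := φ ⟨w, hw⟩ with hb₀
  have hab : b₀ * a₀ * b₀⁻¹ = a₀ ^ j := by
    have := (hφ (⟨w, hw⟩ * ⟨g, hg⟩ * (⟨w, hw⟩ : NA)⁻¹ * (⟨g, hg⟩ ^ j)⁻¹)).2 hj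
    rwa [map_mul, map_inv, map_pow, mul_inv_eq_one, map_mul, map_mul, map_inv] at this
  have : Fact q.Prime := ⟨hq.1⟩
  have ha : orderOf a₀ = q := orderOf_eq_prime
    (by rw [ha₀, ← map_pow]; exact (hφ _).2 hgq') fun h => hgC ((hφ _).1 h)
  have hnotcomm : ¬ Commute b₀ a₀ := fun hc => by
    obtain ⟨e, he⟩ := hwo
    have hcomm := H.comm hx hxr
    refine key (T := part A q) (part_isPGroup hcomm q) (H.part_not_center hx hxr hq)
      (normalizer_le_part hcomm q hg) hgq (normalizer_le_part hcomm q hw)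
      (by rw [he]; exact ((Nat.coprime_primes hs hq.1).2 hsq).pow_left e) (fun y hy => ?_)
      (fun y hy hc' => H.mem_center_of_fixed hx hxr (part_le _ _ hy) hc' hgC)
      (fun y hy hc' => H.mem_center_of_fixed hx hxr (part_le _ _ hy) hc' hwC)
    have h1 : φ (⟨w, hw⟩ * ⟨g, hg⟩ * (⟨w, hw⟩ : NA)⁻¹ * (⟨g, hg⟩ : NA)⁻¹) = 1 := by
      simp only [map_mul, map_inv]
      rw [← ha₀, ← hb₀, hc.eq, mul_inv_cancel_right, mul_inv_cancel]
    have hyA := part_le _ _ hy
    exact H.commute hx hxr ((H.mem_regPart hx hxr).1 hyA).1 ((hφ _).1 h1)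
      ((H.mem_regPart hx hxr).1 hyA).2
  have hj1 : (j : ZMod q) ≠ 1 := fun h => hnotcomm (by
    have : a₀ ^ j = a₀ := by
      conv_rhs => rw [← pow_one a₀]
      rw [pow_eq_pow_iff_modEq, ha]
      exact (ZMod.natCast_eq_natCast_iff _ _ _).1 (by simpa using h)
    rw [this] at hab
    exact mul_inv_eq_iff_eq_mul.1 hab)
  have hjs : (j : ZMod q) ^ s = 1 := by
    have hb : b₀ ^ s = 1 := by rw [hb₀, ← map_pow]; exact (hφ _).2 hwC'
    have hconjn : ∀ n : ℕ, b₀ ^ n * a₀ * (b₀ ^ n)⁻¹ = a₀ ^ j ^ n := fun n => by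
      induction n with
      | zero => simp
      | succ n ih =>
        have e : b₀ * a₀ ^ j ^ n * b₀⁻¹ = a₀ ^ j ^ (n + 1) := by
          rw [← conj_pow, hab, ← pow_mul, pow_succ']
        rw [← e, ← ih, pow_succ']; group
    have h1 := hconjn s
    rw [hb, one_mul, inv_one, mul_one] at h1
    have h2 : a₀ ^ (j ^ s) = a₀ ^ 1 := by rw [pow_one]; exact h1.symm
    rw [pow_eq_pow_iff_modEq, ha] at h2
    simpa using (ZMod.natCast_eq_natCast_iff _ _ _).2 h2
  obtain ⟨l, hlq, hl⟩ := H.exists_thick_ne q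
  have hgeom : ∀ k, (q ∣ geom j k ↔ (j : ZMod q) ^ k = 1) := fun k => by
    have hsum : (geom j k : ZMod q) * ((j : ZMod q) - 1) = (j : ZMod q) ^ k - 1 := by
      rw [geom, Nat.cast_sum]; simp only [Nat.cast_pow]; exact geom_sum_mul _ k
    rw [← CharP.cast_eq_zero_iff (ZMod q) q, ← sub_eq_zero (a := (j : ZMod q) ^ k), ← hsum]
    exact ⟨fun h => by rw [h, zero_mul], fun h => (mul_eq_zero.1 h).resolve_right (sub_ne_zero.2 hj1)⟩
  refine H.false_of_pair hx hxr hq.1 hs.pos hl hlq hg hw hgC hgq' hwC' hj (fun i hi => hnotcomm ?_)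
    (fun k hk0 hks hd => ?_) ((hgeom s).2 hjs)
  · have h1 : a₀ ^ i * b₀ = 1 := by
      rw [ha₀, hb₀, ← map_pow, ← map_mul]; exact (hφ _).2 hi
    rw [show b₀ = (a₀ ^ i)⁻¹ from eq_inv_of_mul_eq_one_right h1]
    exact ((Commute.refl a₀).pow_left i).inv_left
  · have : Fact s.Prime := ⟨hs⟩
    have hord := orderOf_eq_prime hjs hj1
    have := orderOf_dvd_of_pow_eq_one ((hgeom k).1 hd)
    rw [hord] at this
    exact absurd (Nat.le_of_dvd hk0 this) (not_le.2 hks)

/-- A full Sylow subgroup in the normaliser exceeds the centraliser by the prime only. -/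
theorem Hyp.of_sylow_le {q : ℕ} [Fact q.Prime] (hq : Deficient G p a q) (Q : Sylow q G)
    (hQ : (Q : Subgroup G) ≤ NA) :
    a.factorization q + 1 = (Nat.card G).factorization q ∧
      ∃ u ∈ A, u ∉ center G ∧ ∀ g ∈ (Q : Subgroup G), g * u * g⁻¹ * u⁻¹ ∈ center G := by
  classical
  have hth := H.thick_of_deficient hq
  have hcomm := H.comm hx hxr
  set T := part A q with hT
  have hTQ : T ≤ (Q : Subgroup G) := by
    have h1 := (part_isPGroup hcomm q).to_sup_of_normal_left' Q.isPGroup'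
      (hQ.trans (normalizer_le_part hcomm q))
    rw [← Q.is_maximal' h1 le_sup_right]
    exact le_sup_left
  have hQT : ∀ g ∈ (Q : Subgroup G), g ∈ cent x → g ∈ T := fun g hg hgC => by
    obtain ⟨i, hi⟩ := Q.isPGroup'.exists_orderOf_eq_pow ⟨g, hg⟩
    rw [orderOf_mk] at hi
    exact (mem_part hcomm).2 ⟨(H.mem_regPart hx hxr).2 ⟨hgC,
      isReg_of_order H.prime hq.1 hq.2.1 ⟨i, hi⟩⟩, (order_pow_iff hq.1).2 ⟨i, hi⟩⟩
  -- an element of `T` central modulo the centre
  obtain ⟨u, huT, hucen, huq, hufix⟩ : ∃ u ∈ T, u ∉ center G ∧ u ^ q ∈ center G ∧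
      ∀ g ∈ (Q : Subgroup G), g * u * g⁻¹ * u⁻¹ ∈ center G := by
    set π := QuotientGroup.mk' (center G)
    set L := (Q : Subgroup G).map π
    have hTL : T.map π ≤ L := map_mono hTQ
    have : ((T.map π).subgroupOf L).Normal := by
      rw [normal_subgroupOf_iff_le_normalizer hTL]
      exact (map_mono (hQ.trans (normalizer_le_part hcomm q))).trans (le_normalizer_map _)
    have hLp : IsPGroup q L := Q.isPGroup'.map π
    have : Group.IsNilpotent L := hLp.isNilpotent
    have hne : (T.map π).subgroupOf L ≠ ⊥ := fun e => H.part_not_center hx hxr hth fun y hy =>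
      (QuotientGroup.eq_one_iff y).1 (congrArg Subtype.val (mem_bot.1 (e.le
        (show (⟨π y, hTL (mem_map_of_mem π hy)⟩ : L) ∈ (T.map π).subgroupOf L from mem_map_of_mem π hy))))
    obtain ⟨w, hw, hw1⟩ := (bot_or_exists_ne_one _).resolve_left
      (CfsgLib.Solvable.normal_inf_center_ne_bot ((T.map π).subgroupOf L) hne)
    obtain ⟨k, hk⟩ := hLp.exists_orderOf_eq_pow w
    obtain ⟨k, rfl⟩ : ∃ k', k = k' + 1 := ⟨k - 1, by
      rcases Nat.eq_zero_or_pos k with rfl | h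
      · exact absurd (orderOf_eq_one_iff.1 (by rw [hk, pow_zero])) hw1
      · omega⟩
    set z := w ^ q ^ k
    have hz : orderOf z = q := by
      rw [orderOf_pow, hk, Nat.gcd_eq_right (pow_dvd_pow q k.le_succ),
        Nat.pow_div k.le_succ hq.1.pos]
      simp
    have hzT := pow_mem hw (q ^ k)
    obtain ⟨u, hu, hue⟩ := mem_map.1 (mem_subgroupOf.1 (mem_inf.1 hzT).1)
    refine ⟨u, hu, fun h => ?_, ?_, fun g hg => ?_⟩
    · have : z = 1 := Subtype.ext (hue.symm.trans ((QuotientGroup.eq_one_iff u).2 h))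
      rw [this, orderOf_one] at hz
      exact hq.1.ne_one hz.symm
    · have h1 : z ^ q = 1 := orderOf_dvd_iff_pow_eq_one.1 (dvd_of_eq hz)
      rw [← QuotientGroup.eq_one_iff, ← QuotientGroup.mk'_apply, map_pow, hue, ← SubmonoidClass.coe_pow,
        h1, OneMemClass.coe_one]
    · have h2 : π g * π u = π u * π g := by
        have h3 := congrArg Subtype.val (mem_center_iff.1 (mem_inf.1 hzT).2 ⟨π g, mem_map_of_mem π hg⟩)
        rw [hue]; exact h3
      rw [← QuotientGroup.eq_one_iff, ← QuotientGroup.mk'_apply, map_mul, map_mul, map_mul, map_inv,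
        map_inv, h2, mul_inv_cancel_right, mul_inv_cancel]
  have huA : u ∈ A := part_le _ _ huT
  have hcentu := H.cent_eq hx hxr huA hucen
  have hQq : ∀ g ∈ (Q : Subgroup G), g ^ q ∈ cent x := fun g hg => by
    set ζ := g * u * g⁻¹ * u⁻¹ with hζ
    have hzc : ∀ k : G, k * ζ = ζ * k := mem_center_iff.1 (hufix g hg)
    have hzq : ζ ^ q = 1 := by
      have h1 : (g * u * g⁻¹) ^ q = u ^ q := by rw [conj_pow, conj_mem_center huq]
      rw [show g * u * g⁻¹ = ζ * u by rw [hζ]; group,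
        ((show Commute u ζ from hzc u).symm).mul_pow] at h1
      exact mul_eq_right.1 h1
    have hpow : ∀ n : ℕ, g ^ n * u * (g ^ n)⁻¹ = ζ ^ n * u := by
      intro n
      induction n with
      | zero => simp
      | succ n ih =>
        calc g ^ (n + 1) * u * (g ^ (n + 1))⁻¹ = g * (g ^ n * u * (g ^ n)⁻¹) * g⁻¹ := by
              rw [pow_succ']; group
          _ = g * ζ ^ n * u * g⁻¹ := by rw [ih]; group
          _ = ζ ^ n * (g * u * g⁻¹) := by rw [((show Commute g ζ from hzc g).pow_right n).eq]; group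
          _ = ζ ^ (n + 1) * u := by rw [pow_succ, hζ]; group
    rw [← hcentu, mem_cent]
    have := hpow q
    rw [hzq, one_mul] at this
    exact mul_inv_eq_iff_eq_mul.1 this
  have hQcomm : ∀ g ∈ (Q : Subgroup G), ∀ h ∈ (Q : Subgroup G), h * g * h⁻¹ * g⁻¹ ∈ cent x := by
    intro g hg h hh
    rw [← hcentu, mem_cent]
    have e : ∀ k ∈ (Q : Subgroup G), ∀ y : G, y * u * y⁻¹ * u⁻¹ ∈ center G →
        (k * y) * u * (k * y)⁻¹ * u⁻¹ = (k * u * k⁻¹ * u⁻¹) * (y * u * y⁻¹ * u⁻¹) := fun k hk y hy => by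
      have hk' := hufix k hk
      calc (k * y) * u * (k * y)⁻¹ * u⁻¹ = k * (y * u * y⁻¹ * u⁻¹) * k⁻¹ * (k * u * k⁻¹ * u⁻¹) := by group
        _ = _ := by rw [conj_mem_center hy]; exact (mem_center_iff.1 hk' _)
    let f : (Q : Subgroup G) →* center G :=
      { toFun := fun k => ⟨(k : G) * u * (k : G)⁻¹ * u⁻¹, hufix k k.2⟩
        map_one' := Subtype.ext (by simp)
        map_mul' := fun k y => Subtype.ext (e k k.2 y (hufix y y.2)) }
    have h1 : f (⟨h, hh⟩ * ⟨g, hg⟩ * (⟨h, hh⟩ : (Q : Subgroup G))⁻¹ * (⟨g, hg⟩ : (Q : Subgroup G))⁻¹) = 1 := by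
      rw [map_mul, map_mul, map_mul, map_inv, map_inv]
      rw [show f ⟨h, hh⟩ * f ⟨g, hg⟩ = f ⟨g, hg⟩ * f ⟨h, hh⟩ from
        Subtype.ext (mem_center_iff.1 (f ⟨g, hg⟩).2 _), mul_inv_cancel_right, mul_inv_cancel]
    have h2 := congrArg Subtype.val h1
    exact mul_inv_eq_iff_eq_mul.1 (mul_inv_eq_one.1 h2)
  have hTcard : Nat.card T = q ^ a.factorization q := H.card_part hx hxr hq.1
  obtain ⟨g, hg, hgT⟩ : ∃ g ∈ (Q : Subgroup G), g ∉ T := by
    by_contra hcon
    push Not at hcon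
    have h1 := card_le_of_le hcon
    rw [hTcard, Q.card_eq_multiplicity] at h1
    exact absurd ((Nat.pow_le_pow_iff_right hq.1.one_lt).1 h1) (not_le.2 hq.2.2)
  have hgC : g ∉ cent x := fun h => hgT (hQT g hg h)
  obtain ⟨l, hlq, hl⟩ := H.exists_thick_ne q
  have hall : ∀ h ∈ (Q : Subgroup G), ∃ i : ℕ, g ^ i * h ∈ cent x := by
    intro h hh
    by_contra hcon
    push Not at hcon
    exact H.false_of_pair hx hxr (r := q) (s := q) (j := 1) hq.1 hq.1.pos hl hlq (hQ hg) (hQ hh) hgC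
      (hQq g hg) (hQq h hh) (by rw [pow_one]; exact hQcomm g hg h hh) hcon
      (fun k hk0 hkq hd => absurd (Nat.le_of_dvd hk0 (by simpa [geom] using hd)) (not_le.2 hkq))
      (by simp [geom])
  refine ⟨?_, u, huA, hucen, hufix⟩
  set Tq := T.subgroupOf (Q : Subgroup G)
  have : Tq.Normal := normal_subgroupOf_of_le_normalizer (hQ.trans (normalizer_le_part hcomm q))
  set φ := QuotientGroup.mk' Tq
  have hgen : ∀ k, k ∈ zpowers (φ ⟨g, hg⟩) := fun k => by
    obtain ⟨⟨h, hh⟩, rfl⟩ := QuotientGroup.mk'_surjective Tq k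
    obtain ⟨i, hi⟩ := hall h hh
    have h1 : φ (⟨g, hg⟩ ^ i * ⟨h, hh⟩) = 1 :=
      (QuotientGroup.eq_one_iff _).2 (mem_subgroupOf.2 (hQT _ (mul_mem (pow_mem hg i) hh) hi))
    rw [map_mul, map_pow] at h1
    rw [eq_inv_of_mul_eq_one_right h1]
    exact inv_mem (pow_mem (mem_zpowers _) i)
  have hpowq : φ (⟨g, hg⟩ ^ q) = 1 :=
    (QuotientGroup.eq_one_iff _).2 (mem_subgroupOf.2 (hQT _ (pow_mem hg q) (hQq g hg)))
  have hord : orderOf (φ ⟨g, hg⟩) = q := orderOf_eq_prime ((map_pow φ _ q).symm.trans hpowq)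
    fun h => hgT (mem_subgroupOf.1 ((QuotientGroup.eq_one_iff _).1 h))
  have hidx : Nat.card ((Q : Subgroup G) ⧸ Tq) = q := by
    refine Eq.trans ?_ hord
    rw [← Nat.card_zpowers, (eq_top_iff' _).2 hgen, Subgroup.card_top]
  have h1 := card_eq_card_quotient_mul_card_subgroup Tq
  rw [hidx, Nat.card_congr (subgroupOfEquivOfLe hTQ).toEquiv, hTcard, Q.card_eq_multiplicity,
    ← pow_succ'] at h1
  exact (Nat.pow_right_injective hq.1.two_le h1).symm

/-- Every regular part is normalised by a Sylow subgroup of a deficient prime. -/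
theorem Hyp.sylow_le {q : ℕ} [Fact q.Prime] (hq : Deficient G p a q) :
    ∃ Q : Sylow q G, (Q : Subgroup G) ≤ NA := by
  obtain ⟨y, hy, hyr, Q, hQ⟩ := H.exists_sylow_le hx hxr hq
  have hG := (H.of_sylow_le hy hyr hq Q hQ).1
  have hcomm := H.comm hx hxr
  set T := part A q with hT
  have hTp : IsPGroup q T := part_isPGroup hcomm q
  have hTcard : Nat.card T = q ^ a.factorization q := H.card_part hx hxr hq.1
  obtain ⟨g, -, hgN, hgT, hgo⟩ := exists_normalizing (K := (⊤ : Subgroup G)) hTp le_top (by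
    rw [Subgroup.card_top, hTcard, hq.1.factorization_pow, Finsupp.single_eq_same]; omega)
  obtain ⟨i, hi⟩ := hgo
  have hgp : IsPGroup q (zpowers g) := IsPGroup.of_card (n := i) (by rw [Nat.card_zpowers, hi])
  have hSp := hTp.to_sup_of_normal_left' hgp (zpowers_le.2 hgN)
  obtain ⟨R, hR⟩ := hSp.exists_le_sylow
  have hRS : (R : Subgroup G) = T ⊔ zpowers g := by
    refine (eq_of_le_of_card_ge hR ?_).symm
    obtain ⟨n, hn⟩ := IsPGroup.iff_card.1 hSp
    rw [R.card_eq_multiplicity, hn, ← hG]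
    refine Nat.pow_le_pow_right hq.1.pos ?_
    by_contra hlt
    have h1 : Nat.card (T ⊔ zpowers g : Subgroup G) ≤ Nat.card T := by
      rw [hn, hTcard]; exact Nat.pow_le_pow_right hq.1.pos (by omega)
    exact hgT ((eq_of_le_of_card_ge le_sup_left h1).ge (mem_sup_right (mem_zpowers g)))
  refine ⟨R, hRS.le.trans (sup_le ((part_le _ _).trans le_normalizer) (zpowers_le.2 ?_))⟩
  obtain ⟨w, hw, hwc⟩ := SetLike.not_le_iff_exists.1 (H.part_not_center hx hxr (H.thick_of_deficient hq))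
  exact H.mem_normalizer hx hxr (part_le _ _ hw) hwc (part_le _ _ ((mem_normalizer_iff.1 hgN w).1 hw))

/-- Only one prime is deficient. -/
theorem Hyp.deficient_unique {q r : ℕ} (hq : Deficient G p a q) (hr : Deficient G p a r) : q = r := by
  by_contra hne
  have : Fact q.Prime := ⟨hq.1⟩
  have : Fact r.Prime := ⟨hr.1⟩
  set C' := (cent x).subgroupOf NA with hC'
  have : C'.Normal := ⟨fun c hc k => mem_subgroupOf.2 (H.conj_mem_cent hx hxr k.2 (mem_subgroupOf.1 hc))⟩
  set φ := QuotientGroup.mk' C'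
  have hφ : ∀ k : NA, φ k = 1 ↔ (k : G) ∈ cent x := fun k =>
    (QuotientGroup.eq_one_iff k).trans mem_subgroupOf
  have hfac : ∀ t : ℕ, Deficient G p a t → (Nat.card (NA ⧸ C')).factorization t = 1 := by
    intro t ht
    have : Fact t.Prime := ⟨ht.1⟩
    obtain ⟨Q, hQ⟩ := H.sylow_le hx hxr ht
    have hG := (H.of_sylow_le hx hxr ht Q hQ).1
    have h1 : (Nat.card NA).factorization t = (Nat.card G).factorization t := by
      refine le_antisymm (CfsgLib.InvChar.ConjRank.factorization_le_of_dvd Nat.card_pos.ne'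
        (card_subgroup_dvd_card _) t) ?_
      refine le_trans ?_ (factorization_card_le hQ t)
      rw [Q.card_eq_multiplicity, ht.1.factorization_pow, Finsupp.single_eq_same]
    have h2 := congrArg (fun n => n.factorization t) (card_eq_card_quotient_mul_card_subgroup C')
    have h3 : Nat.card C' = Nat.card (cent x) :=
      Nat.card_congr (subgroupOfEquivOfLe (H.cent_le_normalizer hx hxr)).toEquiv
    simp only [Nat.factorization_mul Nat.card_pos.ne' Nat.card_pos.ne', Finsupp.add_apply, h1, h3,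
      H.fac_eq hx hxr ht.1 ht.2.1] at h2
    omega
  -- lifts
  have hlift : ∀ {t : ℕ}, t.Prime → ∀ k : NA ⧸ C', orderOf k = t →
      ∃ g : NA, φ g = k ∧ (∃ i, orderOf (g : G) = t ^ i) ∧ (g : G) ∉ cent x ∧ (g : G) ^ t ∈ cent x := by
    intro t ht k hk
    obtain ⟨v, rfl⟩ := QuotientGroup.mk'_surjective C' k
    obtain ⟨g, -, hg, i, hi⟩ := exists_primary_lift φ (S := ⊤) ht (mem_top v) (i := 1) (by rw [pow_one]; exact hk)
    refine ⟨g, hg, ⟨i, by rwa [orderOf_coe]⟩, fun h => ?_, ?_⟩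
    · rw [← hg, (hφ g).2 h, orderOf_one] at hk
      exact ht.ne_one hk.symm
    · have : φ (g ^ t) = 1 := by rw [map_pow, hg, ← hk, pow_orderOf_eq_one]
      simpa using (hφ _).1 this
  have hconj : ∀ (g v : NA) (j : ℕ), φ v * φ g * (φ v)⁻¹ = φ g ^ j →
      (v : G) * g * (v : G)⁻¹ * ((g : G) ^ j)⁻¹ ∈ cent x := fun g v j h => by
    have : φ (v * g * v⁻¹ * (g ^ j)⁻¹) = 1 := by
      rw [map_mul, map_mul, map_mul, map_inv, map_inv, map_pow, h, mul_inv_cancel]
    simpa using (hφ _).1 this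
  obtain ⟨P⟩ := (inferInstance : Nonempty (Sylow q (NA ⧸ C')))
  have hPc : Nat.card P = q := by rw [P.card_eq_multiplicity, hfac q hq, pow_one]
  have : IsCyclic (P : Subgroup (NA ⧸ C')) := isCyclic_of_prime_card hPc
  have hnc : normalizer ((P : Subgroup (NA ⧸ C')) : Set (NA ⧸ C')) ≤
      centralizer ((P : Subgroup (NA ⧸ C')) : Set (NA ⧸ C')) := by
    intro k hk
    refine mem_of_parts _ k fun m s i hs ho => mem_centralizer_iff.2 fun e he => ?_
    have hkm : k ^ m ∈ normalizer ((P : Subgroup (NA ⧸ C')) : Set (NA ⧸ C')) := pow_mem hk m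
    by_cases hsq : s = q
    · subst hsq
      have hp' : IsPGroup s (zpowers (k ^ m)) := IsPGroup.of_card (n := i) (by rw [Nat.card_zpowers, ho])
      have h1 := P.isPGroup'.to_sup_of_normal_left' hp' (zpowers_le.2 hkm)
      have h2 : k ^ m ∈ (P : Subgroup (NA ⧸ C')) :=
        P.is_maximal' h1 le_sup_left ▸ mem_sup_right (mem_zpowers _)
      let _ : CommGroup (P : Subgroup (NA ⧸ C')) := IsCyclic.commGroup
      exact congrArg Subtype.val (mul_comm (⟨e, he⟩ : (P : Subgroup (NA ⧸ C'))) ⟨_, h2⟩)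
    obtain ⟨v, hv⟩ := QuotientGroup.mk'_surjective C' (k ^ m)
    obtain ⟨w, -, hw, hwo⟩ := exists_primary_lift φ (S := ⊤) hs (mem_top v) (by rw [hv]; exact ho)
    rcases eq_or_ne e 1 with rfl | he1
    · simp
    have heo : orderOf e = q := by
      refine orderOf_eq_prime ?_ he1
      have := pow_card_eq_one' (x := (⟨e, he⟩ : (P : Subgroup (NA ⧸ C'))))
      rw [hPc] at this
      exact congrArg Subtype.val this
    obtain ⟨g, hge, hgo, hgC, hgq⟩ := hlift hq.1 e heo
    have hzp : zpowers e = (P : Subgroup (NA ⧸ C')) := eq_of_le_of_card_ge (zpowers_le.2 he)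
      (by rw [Nat.card_zpowers, heo, hPc])
    obtain ⟨j, hj⟩ := (isOfFinOrder_of_finite e).mem_powers_iff_mem_zpowers.2
      (hzp ▸ (mem_normalizer_iff.1 hkm e).1 he)
    obtain ⟨i', hi'⟩ := hwo
    have h3 := H.mem_cent_of_normalizing hx hxr (H.thick_of_deficient hq) g.2 hgo hgC hgq hs hsq w.2
      ⟨i', by rwa [orderOf_coe]⟩ j (hconj g w j (by rw [hw, hv, hge]; exact hj.symm))
    rw [← hv, ← hw, (hφ w).2 h3, mul_one, one_mul]
  obtain ⟨M, hMn, hMP⟩ := CfsgLib.Transfer.exists_normal_complement_of_normalizer_le_centralizer _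
    P.card_coprime_index hnc
  have hMc : Nat.card M * q = Nat.card (NA ⧸ C') := by rw [← hPc]; exact hMP.card_mul_card
  have hMr : (Nat.card M).factorization r = 1 := by
    rw [← hfac r hr, ← hMc, Nat.factorization_mul Nat.card_pos.ne' hq.1.ne_zero, Finsupp.add_apply,
      hq.1.factorization, Finsupp.single_eq_of_ne (Ne.symm hne), add_zero]
  obtain ⟨R⟩ := (inferInstance : Nonempty (Sylow r M))
  set R' := (R : Subgroup M).map M.subtype with hR'
  have hRc : Nat.card R' = r := by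
    rw [card_map_of_injective M.subtype_injective, R.card_eq_multiplicity, hMr, pow_one]
  have hfr : normalizer (R' : Set (NA ⧸ C')) ⊔ M = ⊤ := by
    have := hMn
    exact Sylow.normalizer_sup_eq_top R
  have hqN : q ∣ Nat.card (normalizer (R' : Set (NA ⧸ C'))) := by
    have hd := CfsgLib.Solvable.card_sup_dvd (normalizer (R' : Set (NA ⧸ C'))) M
    rw [hfr, Subgroup.card_top, ← hMc, mul_comm (Nat.card M) q] at hd
    exact Nat.dvd_of_mul_dvd_mul_right Nat.card_pos hd
  obtain ⟨⟨e, he⟩, heo⟩ := exists_prime_orderOf_dvd_card' q hqN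
  rw [orderOf_mk] at heo
  obtain ⟨⟨f, hf⟩, hfo⟩ := exists_prime_orderOf_dvd_card' (G := R') r (dvd_of_eq hRc.symm)
  rw [orderOf_mk] at hfo
  have hzp : zpowers f = R' := eq_of_le_of_card_ge (zpowers_le.2 hf) (by rw [Nat.card_zpowers, hfo, hRc])
  obtain ⟨j, hj⟩ := (isOfFinOrder_of_finite f).mem_powers_iff_mem_zpowers.2
    (hzp ▸ (mem_normalizer_iff.1 he f).1 hf)
  obtain ⟨g, hge, hgo, hgC, -⟩ := hlift hq.1 e heo
  obtain ⟨h, hhf, hho, hhC, hhr⟩ := hlift hr.1 f hfo
  exact hgC (H.mem_cent_of_normalizing hx hxr (H.thick_of_deficient hr) h.2 hho hhC hhr hq.1 hne g.2 hgo j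
    (hconj h g j (by rw [hge, hhf]; exact hj.symm)))

end CfsgLib.Perm.TwoRegularSizes
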