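import Cfsg.Agent.Lib.Perm.TwoRegularSizes.Global
import Cfsg.Agent.Lib.Char.Column
import Cfsg.Agent.Lib.Transfer.HallComplement

/-!
# Two sizes of classes of regular elements
-/

set_option autoImplicit false
set_option linter.unusedSectionVars false

namespace CfsgLib.Perm.TwoRegularSizes

open Subgroup
open CfsgLib.InvChar.ConjRank (cent mem_cent self_mem_cent mem_cent_comm factorization_card_le
  factorization_le_of_dvd cent_le_pow cent_mul_le_of_coprime mem_of_parts)
open CfsgLib.Perm.ThreeSizes.Thick (Pr exists_primary cent_inf_center cent_eq_top not_central_of_le)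

universe u
variable {G : Type u} [Group G] [Finite G] {p c : ℕ}

section one_order

variable (hp : p.Prime) (hc : ∀ x : G, x ∉ center G → IsReg p x → Nat.card (cent x) = c)
include hp hc

theorem cent_eq_of_le {x y : G} (hx : x ∉ center G) (hxr : IsReg p x) (hy : y ∉ center G)
    (hyr : IsReg p y) (h : cent x ≤ cent y) : cent x = cent y :=
  eq_of_le_of_card_ge h (by rw [hc x hx hxr, hc y hy hyr])

/-- Regular elements of coprime order in a centraliser are central in it. -/
theorem cent_le_of_coprime {x y : G} (hx : x ∉ center G) (hxr : IsReg p x) (hyr : IsReg p y)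
    (hy : Commute x y) (hco : (orderOf x).Coprime (orderOf y)) : cent x ≤ cent y := by
  have h := cent_mul_le_of_coprime hy hco
  have hxy : x * y ∉ center G := not_central_of_le (h.trans inf_le_left) hx
  have he := cent_eq_of_le hp hc hxy (hxr.mul hp hyr hy) hx hxr (h.trans inf_le_left)
  exact he ▸ h.trans inf_le_right

/-- With noncentral regular elements of two primes the hypothesis of the main lemma holds. -/
theorem hyp_of_two {q r : ℕ} (hqr : q ≠ r) (hqp : q ≠ p) (hrp : r ≠ p) {u v : G} (hu : Pr u q)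
    (hv : Pr v r) : Hyp G p (c / p ^ c.factorization p) := by
  have hur := isReg_of_order hp hu.1 hqp hu.2.2
  have hvr := isReg_of_order hp hv.1 hrp hv.2.2
  -- every centraliser has noncentral elements of both primes
  have hthick : ∀ {t : ℕ} {w : G}, Pr w t → t ≠ p →
      (Nat.card (center G)).factorization t < c.factorization t := by
    intro t w hw htp
    refine lt_of_not_ge fun hle => hw.2.1 ?_
    obtain ⟨i, hi⟩ := hw.2.2
    refine CfsgLib.InvChar.ConjRank.mem_of_central_of_full (L := center G ⊔ zpowers w) le_sup_left hw.1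
      (mem_sup_right (mem_zpowers w)) hi (sup_le (cent_inf_center w) (zpowers_le.2 (self_mem_cent w))) ?_
    refine le_trans (factorization_card_le
      (sup_le (cent_inf_center w) (zpowers_le.2 (self_mem_cent w))) t) ?_
    rw [hc w hw.2.1 (isReg_of_order hp hw.1 htp hw.2.2)]
    exact hle
  have hkey : ∀ x : G, x ∉ center G → IsReg p x → ∀ y ∈ cent x, IsReg p y → cent x ≤ cent y := by
    intro x hx hxr y hy hyr
    obtain ⟨k, s, hs⟩ := exists_primary hx
    have hsp : s ≠ p := fun e => by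
      obtain ⟨i, hi⟩ := hs.2.2
      rcases i with _ | i
      · exact hs.2.1 ((orderOf_eq_one_iff.1 (hi.trans (pow_zero s))).symm ▸ one_mem _)
      · exact hxr ((e ▸ hi ▸ dvd_pow_self s i.succ_ne_zero).trans (orderOf_pow_dvd k))
    have hxk : cent x = cent (x ^ k) := cent_eq_of_le hp hc hx hxr hs.2.1 (hxr.pow k) (cent_le_pow x k)
    rw [hxk] at hy ⊢
    obtain ⟨t, w', hw', hts, htp⟩ : ∃ t w', Pr w' t ∧ t ≠ s ∧ t ≠ p := by
      by_cases h : q = s
      · exact ⟨r, v, hv, fun e => hqr (h.trans e.symm), hrp⟩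
      · exact ⟨q, u, hu, h, hqp⟩
    obtain ⟨w, hw, hwt⟩ := CfsgLib.Perm.ThreeSizes.Thick.exists_pr (K := cent (x ^ k)) hw'.1
      ((hc _ hs.2.1 (hxr.pow k)).symm ▸ hthick hw' htp)
    have hwr := isReg_of_order hp hwt.1 htp hwt.2.2
    have hxw : cent (x ^ k) = cent w := cent_eq_of_le hp hc hs.2.1 (hxr.pow k) hwt.2.1 hwr
      (cent_le_of_coprime hp hc hs.2.1 (hxr.pow k) hwr (mem_cent.1 hw).symm (hs.coprime hwt hts.symm))
    have hyK : y ∈ centralizer (cent (x ^ k) : Set G) := mem_of_parts _ y fun m l i hl ho => by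
      have hmem : y ^ m ∈ cent (x ^ k) := pow_mem hy m
      refine mem_centralizer_iff.2 fun g hg => ?_
      by_cases hls : l = s
      · have hco : (orderOf w).Coprime (orderOf (y ^ m)) := by
          obtain ⟨j, hj⟩ := hwt.2.2
          rw [ho, hj]
          exact ((Nat.coprime_primes hwt.1 hl).2 (hls ▸ hts)).pow j i
        exact (mem_cent.1 (cent_le_of_coprime hp hc hwt.2.1 hwr (hyr.pow m)
          (mem_cent.1 (hxw ▸ hmem)).symm hco (hxw ▸ hg))).eq
      · have hco : (orderOf (x ^ k)).Coprime (orderOf (y ^ m)) := by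
          obtain ⟨j, hj⟩ := hs.2.2
          rw [ho, hj]
          exact ((Nat.coprime_primes hs.1 hl).2 (Ne.symm hls)).pow j i
        exact (mem_cent.1 (cent_le_of_coprime hp hc hs.2.1 (hxr.pow k) (hyr.pow m)
          (mem_cent.1 hmem).symm hco hg)).eq
    exact fun g hg => mem_cent.2 (mem_centralizer_iff.1 hyK g hg)
  have hfac : ∀ t : ℕ, t ≠ p →
      (c / p ^ c.factorization p).factorization t = c.factorization t := fun t ht => by
    rw [Nat.factorization_ordCompl, Finsupp.erase_ne ht]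
  refine ⟨hp, fun x y hx hy hxr hyr hxy => ?_, fun x hx hxr => ?_, ⟨u, hu.2.1, hur⟩,
    q, r, hu.1, hv.1, hqr, hqp, hrp, (hfac q hqp).symm ▸ hthick hu hqp, (hfac r hrp).symm ▸ hthick hv hrp⟩
  · exact cent_eq_of_le hp hc hx hxr hy hyr (hkey x hx hxr y (mem_cent.2 hxy.symm) hyr)
  · have hmem : ∀ y : G, y ∈ regPart p x ↔ y ∈ cent x ∧ IsReg p y := fun y => by
      refine ⟨fun h => ?_, fun h => subset_closure h⟩
      induction h using closure_induction with
      | mem y hy => exact hy
      | one => exact ⟨one_mem _, isReg_one hp⟩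
      | mul y z _ _ h1 h2 =>
        exact ⟨mul_mem h1.1 h2.1, h1.2.mul hp h2.2 (mem_cent.1 (hkey x hx hxr z h2.1 h2.2 h1.1))⟩
      | inv y _ h1 => exact ⟨inv_mem h1.1, by rw [IsReg, orderOf_inv]; exact h1.2⟩
    have hc0 : c ≠ 0 := hc x hx hxr ▸ Nat.card_pos.ne'
    refine Nat.eq_of_factorization_eq Nat.card_pos.ne'
      (Nat.div_pos (Nat.ordProj_le p hc0) (pow_pos hp.pos _)).ne' fun t => ?_
    by_cases htp : t = p
    · subst htp
      rw [Nat.factorization_ordCompl, Finsupp.erase_same]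
      refine Nat.factorization_eq_zero_of_not_dvd fun hd => ?_
      have : Fact t.Prime := ⟨hp⟩
      obtain ⟨⟨y, hy⟩, ho⟩ := exists_prime_orderOf_dvd_card' (G := regPart t x) t hd
      rw [orderOf_mk] at ho
      exact ((hmem y).1 hy).2 (dvd_of_eq ho.symm)
    rw [hfac t htp, ← hc x hx hxr]
    by_cases ht : t.Prime
    · refine le_antisymm (factorization_card_le (regPart_le_cent p x) t) ?_
      have : Fact t.Prime := ⟨ht⟩
      obtain ⟨P⟩ := (inferInstance : Nonempty (Sylow t (cent x)))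
      refine le_trans ?_ (factorization_card_le
        (H := (P : Subgroup (cent x)).map (cent x).subtype) (fun g hg => ?_) t)
      · rw [card_map_of_injective (cent x).subtype_injective, P.card_eq_multiplicity,
          ht.factorization_pow, Finsupp.single_eq_same]
      · obtain ⟨⟨g, hgc⟩, hgP, rfl⟩ := mem_map.1 hg
        obtain ⟨i, hi⟩ := P.isPGroup'.exists_orderOf_eq_pow ⟨⟨g, hgc⟩, hgP⟩
        exact (hmem g).2 ⟨hgc, isReg_of_order hp ht htp ⟨i, by rwa [orderOf_mk, orderOf_mk] at hi⟩⟩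
    · rw [Nat.factorization_eq_zero_of_not_prime _ ht, Nat.factorization_eq_zero_of_not_prime _ ht]

end one_order

/-- The central part prime to `p` and `q`. -/
def centralPart (G : Type u) [Group G] (p q : ℕ) : Subgroup G :=
  closure {z | z ∈ center G ∧ ¬ p ∣ orderOf z ∧ ¬ q ∣ orderOf z}

/-- Only one prime outside the centre. -/
theorem one_prime (hp : p.Prime) {q : ℕ} [Fact q.Prime] (hqp : q ≠ p)
    (h : ∀ s : ℕ, s ≠ p → s ≠ q → ∀ y : G, ¬ Pr y s) :
    ∃ (P : Sylow p G) (Q : Sylow q G) (A : Subgroup G),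
      A ≤ center G ∧ Nat.card ↥((P : Subgroup G) ⊔ (Q : Subgroup G)) = Nat.card P * Nat.card Q ∧
      ((P : Subgroup G) ⊔ (Q : Subgroup G)).Normal ∧
      ((P : Subgroup G) ⊔ (Q : Subgroup G)) ⊓ A = ⊥ ∧ ((P : Subgroup G) ⊔ (Q : Subgroup G)) ⊔ A = ⊤ := by
  classical
  have hq := (Fact.out : q.Prime)
  have : Fact p.Prime := ⟨hp⟩
  set A := centralPart G p q with hA
  have hmem : ∀ z, z ∈ A ↔ z ∈ center G ∧ ¬ p ∣ orderOf z ∧ ¬ q ∣ orderOf z := fun z => by
    refine ⟨fun h' => ?_, fun h' => subset_closure h'⟩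
    induction h' using closure_induction with
    | mem y hy => exact hy
    | one => exact ⟨one_mem _, isReg_one hp, isReg_one hq⟩
    | mul y w _ _ h1 h2 =>
      have hc : Commute y w := mem_center_iff.1 h2.1 y
      exact ⟨mul_mem h1.1 h2.1, IsReg.mul hp h1.2.1 h2.2.1 hc, IsReg.mul hq h1.2.2 h2.2.2 hc⟩
    | inv y _ h1 => exact ⟨inv_mem h1.1, by rw [orderOf_inv]; exact h1.2⟩
  have hAZ : A ≤ center G := fun z hz => ((hmem z).1 hz).1
  have hfull : ∀ s : ℕ, (Nat.card A).factorization s =
      if s = p ∨ s = q then 0 else (Nat.card G).factorization s := by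
    intro s
    split_ifs with hs
    · refine Nat.factorization_eq_zero_of_not_dvd fun hd => ?_
      have : Fact s.Prime := ⟨hs.elim (fun e => e ▸ hp) fun e => e ▸ hq⟩
      obtain ⟨⟨z, hz⟩, ho⟩ := exists_prime_orderOf_dvd_card' (G := A) s hd
      rw [orderOf_mk] at ho
      rcases hs with e | e
      · exact ((hmem z).1 hz).2.1 (e ▸ dvd_of_eq ho.symm)
      · exact ((hmem z).1 hz).2.2 (e ▸ dvd_of_eq ho.symm)
    push Not at hs
    refine le_antisymm (factorization_le_of_dvd Nat.card_pos.ne' (card_subgroup_dvd_card A) s) ?_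
    by_cases hsP : s.Prime
    swap
    · rw [Nat.factorization_eq_zero_of_not_prime _ hsP]; exact Nat.zero_le _
    have : Fact s.Prime := ⟨hsP⟩
    obtain ⟨S⟩ := (inferInstance : Nonempty (Sylow s G))
    refine le_trans ?_ (factorization_card_le (H := (S : Subgroup G)) (fun z hz => ?_) s)
    · rw [S.card_eq_multiplicity, hsP.factorization_pow, Finsupp.single_eq_same]
    obtain ⟨i, hi⟩ := S.isPGroup'.exists_orderOf_eq_pow ⟨z, hz⟩
    rw [orderOf_mk] at hi
    exact (hmem z).2 ⟨by_contra fun hc => h s hs.1 hs.2 z ⟨hsP, hc, i, hi⟩,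
      isReg_of_order hp hsP hs.1 ⟨i, hi⟩, isReg_of_order hq hsP hs.2 ⟨i, hi⟩⟩
  have hidx : ∀ s : ℕ, A.index.factorization s =
      if s = p ∨ s = q then (Nat.card G).factorization s else 0 := fun s => by
    have h1 : (Nat.card G).factorization s = (Nat.card A).factorization s + A.index.factorization s := by
      rw [← A.card_mul_index, Nat.factorization_mul Nat.card_pos.ne' index_ne_zero_of_finite,
        Finsupp.add_apply]
    rw [hfull] at h1
    split_ifs at h1 ⊢ <;> omega
  have hHall : (Nat.card A).Coprime A.index := Nat.coprime_of_dvd fun s hs h1 h2 => by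
    have h1' := hs.factorization_pos_of_dvd Nat.card_pos.ne' h1
    have h2' := hs.factorization_pos_of_dvd index_ne_zero_of_finite h2
    rw [hfull] at h1'
    rw [hidx] at h2'
    split_ifs at h1' h2' <;> omega
  obtain ⟨N, hNn, hNA⟩ := CfsgLib.Transfer.exists_normal_complement_of_normalizer_le_centralizer A hHall
    fun g _ => mem_centralizer_iff.2 fun z hz => (mem_center_iff.1 (hAZ hz) g).symm
  obtain ⟨P⟩ := (inferInstance : Nonempty (Sylow p G))
  obtain ⟨Q⟩ := (inferInstance : Nonempty (Sylow q G))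
  have hNidx : N.index = Nat.card A := hNA.symm.index_eq_card
  have hin : ∀ {t : ℕ} (S : Sylow t G), t.Prime → (t = p ∨ t = q) → (S : Subgroup G) ≤ N := by
    intro t S ht htpq g hg
    have : Fact t.Prime := ⟨ht⟩
    obtain ⟨i, hi⟩ := S.isPGroup'.exists_orderOf_eq_pow ⟨g, hg⟩
    rw [orderOf_mk] at hi
    have hco : (t ^ i).Coprime (Nat.card A) := by
      refine Nat.Coprime.pow_left _ (ht.coprime_iff_not_dvd.2 fun hd => ?_)
      have := ht.factorization_pos_of_dvd Nat.card_pos.ne' hd
      rw [hfull, if_pos htpq] at this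
      omega
    refine (QuotientGroup.eq_one_iff (N := N) g).1 (orderOf_eq_one_iff.1 (Nat.eq_one_of_dvd_coprimes hco
      (hi ▸ orderOf_map_dvd (QuotientGroup.mk' N) g) ?_))
    rw [← hNidx, index_eq_card]
    exact orderOf_dvd_natCard _
  set K := (P : Subgroup G) ⊔ (Q : Subgroup G)
  have hKN : K ≤ N := sup_le (hin P hp (Or.inl rfl)) (hin Q hq (Or.inr rfl))
  have hNc : Nat.card N = Nat.card P * Nat.card Q := by
    have h1 : Nat.card N = A.index := hNA.index_eq_card.symm
    rw [h1, P.card_eq_multiplicity, Q.card_eq_multiplicity]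
    refine Nat.eq_of_factorization_eq index_ne_zero_of_finite
      (mul_ne_zero (pow_ne_zero _ hp.ne_zero) (pow_ne_zero _ hq.ne_zero)) fun s => ?_
    rw [hidx, Nat.factorization_mul (pow_ne_zero _ hp.ne_zero) (pow_ne_zero _ hq.ne_zero),
      Finsupp.add_apply, hp.factorization_pow, hq.factorization_pow]
    by_cases h1 : s = p
    · subst h1; simp [Finsupp.single_eq_of_ne (Ne.symm hqp)]
    by_cases h2 : s = q
    · subst h2; simp [Finsupp.single_eq_of_ne hqp]
    simp [h1, h2]
  have hKc : Nat.card K = Nat.card P * Nat.card Q := by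
    refine Nat.dvd_antisymm (hNc ▸ card_dvd_of_le hKN) ?_
    refine Nat.Coprime.mul_dvd_of_dvd_of_dvd ?_ (card_dvd_of_le le_sup_left) (card_dvd_of_le le_sup_right)
    rw [P.card_eq_multiplicity, Q.card_eq_multiplicity]
    exact ((Nat.coprime_primes hp hq).2 (Ne.symm hqp)).pow _ _
  have hKeq : K = N := eq_of_le_of_card_ge hKN (by rw [hNc, hKc])
  refine ⟨P, Q, A, hAZ, hKc, ?_, ?_, ?_⟩
  · rw [show (P : Subgroup G) ⊔ (Q : Subgroup G) = N from hKeq]; exact hNn
  · rw [show (P : Subgroup G) ⊔ (Q : Subgroup G) = N from hKeq]; exact disjoint_iff.1 hNA.disjoint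
  · rw [show (P : Subgroup G) ⊔ (Q : Subgroup G) = N from hKeq]; exact hNA.sup_eq_top

/-- The theorem. -/
theorem main (hp : p.Prime)
    (h2 : Set.ncard (Set.range fun x : {x : G // (orderOf x).Coprime p} =>
      (ConjClasses.mk (x : G)).carrier.ncard) = 2) :
    (∃ H : Subgroup G, IsMulCommutative H ∧ ¬ p ∣ Nat.card H ∧ ∃ k : ℕ, H.index = p ^ k) ∨
    (∃ (q : ℕ) (_ : Fact q.Prime) (P : Sylow p G) (Q : Sylow q G) (A : Subgroup G), q ≠ p ∧
        A ≤ Subgroup.center G ∧ Nat.card ↥((P : Subgroup G) ⊔ (Q : Subgroup G)) = Nat.card P * Nat.card Q ∧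
        ((P : Subgroup G) ⊔ (Q : Subgroup G)).Normal ∧
        ((P : Subgroup G) ⊔ (Q : Subgroup G)) ⊓ A = ⊥ ∧ ((P : Subgroup G) ⊔ (Q : Subgroup G)) ⊔ A = ⊤) := by
  classical
  have := Fintype.ofFinite G
  set R := Set.range fun x : {x : G // (orderOf x).Coprime p} => (ConjClasses.mk (x : G)).carrier.ncard
  have hval : ∀ x : G, IsReg p x → (cent x).index ∈ R := fun x hx =>
    ⟨⟨x, ((hp.coprime_iff_not_dvd).2 hx).symm⟩, by
      show (ConjClasses.mk x).carrier.ncard = _
      rw [← Nat.card_coe_set_eq, CfsgLib.Char.natCard_carrier_eq_index]⟩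
  have h1R : 1 ∈ R := by
    have := hval 1 (isReg_one hp)
    rwa [cent_eq_top.2 (one_mem _), index_top] at this
  obtain ⟨x₀, hx₀, hx₀r⟩ : ∃ x : G, x ∉ center G ∧ IsReg p x := by
    by_contra hcon
    push Not at hcon
    have hR : R ⊆ {1} := by
      rintro _ ⟨⟨x, hx⟩, rfl⟩
      have hxr : IsReg p x := (hp.coprime_iff_not_dvd).1 hx.symm
      have hxc : x ∈ center G := by
        by_contra h
        exact hcon x h hxr
      show (ConjClasses.mk x).carrier.ncard = 1
      rw [← Nat.card_coe_set_eq, CfsgLib.Char.natCard_carrier_eq_index]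
      show (cent x).index = 1
      rw [cent_eq_top.2 hxc, index_top]
    have := Set.ncard_le_ncard hR (Set.finite_singleton 1)
    rw [h2, Set.ncard_singleton] at this
    omega
  have hne1 : ∀ x : G, x ∉ center G → (cent x).index ≠ 1 := fun x hx h =>
    hx (cent_eq_top.1 (index_eq_one.1 h))
  have hc : ∀ x : G, x ∉ center G → IsReg p x → Nat.card (cent x) = Nat.card (cent x₀) := by
    intro x hx hxr
    have he : (cent x).index = (cent x₀).index := by
      by_contra hne
      have hsub : ({1, (cent x).index, (cent x₀).index} : Set ℕ) ⊆ R := by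
        rintro k (rfl | rfl | rfl)
        exacts [h1R, hval x hxr, hval x₀ hx₀r]
      have := Set.ncard_le_ncard hsub (Set.finite_range _)
      rw [h2, Set.ncard_eq_three.2 ⟨1, _, _, (hne1 x hx).symm, (hne1 x₀ hx₀).symm, hne, rfl⟩] at this
      omega
    have h1 := (cent x).card_mul_index
    have h3 := (cent x₀).card_mul_index
    rw [he, ← h3] at h1
    exact Nat.eq_of_mul_eq_mul_right (Nat.pos_of_ne_zero index_ne_zero_of_finite) h1
  obtain ⟨k, q, hq⟩ := exists_primary hx₀
  have hqp : q ≠ p := fun e => by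
    obtain ⟨i, hi⟩ := hq.2.2
    rcases i with _ | i
    · exact hq.2.1 ((orderOf_eq_one_iff.1 (hi.trans (pow_zero q))).symm ▸ one_mem _)
    · exact hx₀r ((e ▸ hi ▸ dvd_pow_self q i.succ_ne_zero).trans (orderOf_pow_dvd k))
  have : Fact q.Prime := ⟨hq.1⟩
  by_cases h : ∀ s : ℕ, s ≠ p → s ≠ q → ∀ y : G, ¬ Pr y s
  · obtain ⟨P, Q, A, hh⟩ := one_prime hp hqp h
    exact Or.inr ⟨q, ⟨hq.1⟩, P, Q, A, hqp, hh⟩
  push Not at h
  obtain ⟨r, hrp, hrq, y, hy⟩ := h
  left
  set a := Nat.card (cent x₀) / p ^ (Nat.card (cent x₀)).factorization p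
  have H : Hyp G p a := hyp_of_two hp hc (Ne.symm hrq) hqp hrp hq hy
  have hac : Nat.card (regPart p x₀) = a := H.card x₀ hx₀ hx₀r
  refine ⟨regPart p x₀, ⟨⟨fun u v => Subtype.ext (H.comm hx₀ hx₀r u u.2 v v.2).eq⟩⟩, fun hd => ?_, _,
    Nat.eq_prime_pow_of_unique_prime_dvd (p := p) index_ne_zero_of_finite fun {s} hs hsd => ?_⟩
  · exact Nat.not_dvd_ordCompl hp Nat.card_pos.ne' (hac ▸ hd : p ∣ a)
  · by_contra hsp
    have h1 : (Nat.card G).factorization s ≤ a.factorization s :=
      not_lt.1 fun h' => H.not_deficient s ⟨hs, hsp, h'⟩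
    rw [← (regPart p x₀).card_mul_index, hac,
      Nat.factorization_mul (hac ▸ Nat.card_pos.ne') index_ne_zero_of_finite, Finsupp.add_apply] at h1
    have := hs.factorization_pos_of_dvd index_ne_zero_of_finite hsd
    omega

end CfsgLib.Perm.TwoRegularSizes
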